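import Cfsg.Agent.Lib.Coprime.PGroupFrattini
import Mathlib.GroupTheory.Perm.Cycle.Type
import Mathlib.GroupTheory.QuotientGroup.Basic
import Mathlib.GroupTheory.PGroup

/-!
# Automorphisms trivial on the Frattini quotient of a `p`-group
-/

set_option autoImplicit false
set_option linter.style.haveILetI false

open Subgroup

namespace CfsgLib.MaxClassEss

variable {H : Type*} [Group H] {p : ℕ} [hpf : Fact p.Prime]

/-- The action on the Frattini quotient. -/
noncomputable def frAct : MulAut H →* MulAut (H ⧸ frattini H) :=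
  MonoidHom.mk' (fun σ => QuotientGroup.congr (frattini H) (frattini H) σ
    (Subgroup.characteristic_iff_map_eq.1 inferInstance σ))
    fun _ _ => MulEquiv.ext fun v => by
      obtain ⟨a, rfl⟩ := QuotientGroup.mk_surjective v
      rfl

theorem frAct_eq_one_iff {σ : MulAut H} : frAct σ = 1 ↔ ∀ a, σ a * a⁻¹ ∈ frattini H := by
  constructor
  · intro h a
    have h1 : ((σ a : H) : H ⧸ frattini H) = (a : H ⧸ frattini H) := DFunLike.congr_fun h (a : H ⧸ frattini H)
    rw [← QuotientGroup.eq_one_iff, QuotientGroup.mk_mul, QuotientGroup.mk_inv, h1, mul_inv_cancel]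
  · intro h
    refine MulEquiv.ext fun v => ?_
    obtain ⟨a, rfl⟩ := QuotientGroup.mk_surjective v
    show ((σ a : H) : H ⧸ frattini H) = (a : H ⧸ frattini H)
    rw [← mul_inv_eq_one, ← QuotientGroup.mk_inv, ← QuotientGroup.mk_mul, QuotientGroup.eq_one_iff]
    exact h a

theorem mem_frattini_iff_apply {σ : MulAut H} {a : H} : σ a ∈ frattini H ↔ a ∈ frattini H := by
  have h := Subgroup.characteristic_iff_comap_eq.1 (inferInstance : (frattini H).Characteristic) σ
  exact (Subgroup.ext_iff.1 h a)

variable [Finite H]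

/-- An automorphism of order prime to `p` trivial on the Frattini quotient is trivial. -/
theorem eq_one_of_frAct (hH : IsPGroup p H) {σ : MulAut H} (h : frAct σ = 1) {r : ℕ} (hr : r.Prime)
    (hrp : r ≠ p) (hσ : σ ^ r = 1) : σ = 1 := by
  haveI : Fact r.Prime := ⟨hr⟩
  set C := MonoidHom.eqLocus σ.toMonoidHom (MonoidHom.id H) with hC
  have htop : C ⊔ frattini H = ⊤ := by
    refine eq_top_iff.2 fun a _ => ?_
    let T := {y : H // y * a⁻¹ ∈ frattini H}
    haveI : Fintype T := Fintype.ofFinite T
    have hmem : ∀ {τ : MulAut H}, frAct τ = 1 → ∀ y : T, τ y.1 * a⁻¹ ∈ frattini H := by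
      intro τ hτ y
      rw [show τ y.1 * a⁻¹ = (τ y.1 * y.1⁻¹) * (y.1 * a⁻¹) by group]
      exact mul_mem (frAct_eq_one_iff.1 hτ _) y.2
    have hinv : frAct σ⁻¹ = 1 := by rw [map_inv, h, inv_one]
    let π : Equiv.Perm T :=
      { toFun := fun y => ⟨σ y.1, hmem h y⟩
        invFun := fun y => ⟨σ⁻¹ y.1, hmem hinv y⟩
        left_inv := fun y => Subtype.ext (MulAut.inv_apply_self _ _ _)
        right_inv := fun y => Subtype.ext (MulAut.apply_inv_self _ _ _) }
    have hpow : ∀ (e : ℕ) (y : T), ((π ^ e) y).1 = (σ ^ e) y.1 := by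
      intro e
      induction e with
      | zero => intro y; rfl
      | succ e ih =>
        intro y
        rw [pow_succ', Equiv.Perm.mul_apply, pow_succ', MulAut.mul_apply, ← ih]
        rfl
    have hcard : ¬ r ∣ Fintype.card T := by
      have e : Fintype.card T = Nat.card (frattini H) := by
        rw [← Nat.card_eq_fintype_card]
        exact Nat.card_congr ((Equiv.mulRight a⁻¹).subtypeEquiv fun y => Iff.rfl)
      obtain ⟨j, hj⟩ := (hH.to_subgroup (frattini H)).exists_card_eq
      rw [e, hj]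
      exact fun hd => hrp ((Nat.prime_dvd_prime_iff_eq hr hpf.out).1 (hr.dvd_of_dvd_pow hd))
    obtain ⟨y, hy⟩ := Equiv.Perm.exists_fixed_point_of_prime (n := 1) hcard (σ := π)
      (Equiv.ext fun y => Subtype.ext (by rw [pow_one, hpow, hσ]; rfl))
    rw [show a = (y.1 * a⁻¹)⁻¹ * y.1 by group]
    exact mul_mem (mem_sup_right (inv_mem y.2)) (mem_sup_left (congrArg Subtype.val hy))
  have h1 : C = ⊤ := frattini_nongenerating htop
  exact MulEquiv.ext fun a => h1.ge (mem_top a)

/-- A group of automorphisms trivial on the Frattini quotient is a `p`-group. -/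
theorem isPGroup_of_frAct (hH : IsPGroup p H) (R : Subgroup (MulAut H)) (hR : ∀ σ ∈ R, frAct σ = 1) :
    IsPGroup p R := by
  haveI : Finite (MulAut H) := Finite.of_injective (fun a : MulAut H => (a : H → H)) DFunLike.coe_injective
  refine IsPGroup.of_card (n := (Nat.card R).primeFactorsList.length)
    (Nat.eq_prime_pow_of_unique_prime_dvd Nat.card_pos.ne' fun {r} hr hdvd => ?_)
  by_contra hne
  haveI : Fact r.Prime := ⟨hr⟩
  obtain ⟨σ, hσ⟩ := exists_prime_orderOf_dvd_card' (G := R) r hdvd
  have h1 : ((σ : MulAut H)) ^ r = 1 := by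
    rw [← SubmonoidClass.coe_pow, ← hσ, pow_orderOf_eq_one]; rfl
  have h2 : σ = 1 := Subtype.ext (eq_one_of_frAct hH (hR σ σ.2) hr hne h1)
  rw [h2, orderOf_one] at hσ
  exact hr.ne_one hσ.symm

end CfsgLib.MaxClassEss
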