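import Cfsg.Agent.Lib.MaxClassEss.Layer
import Cfsg.Agent.Lib.RegUnip.Core
import Mathlib.LinearAlgebra.Finsupp.LinearCombination
import Mathlib.Algebra.Module.ZMod

/-!
# Coordinates on a section of the lower central series

A group `H` sitting as `γ_k` has coordinates modulo `γ_(k+m)` on the iterated commutators with a uniform
element, and its automorphisms act by matrices.
-/

set_option autoImplicit false
set_option linter.style.haveILetI false
set_option linter.unusedSectionVars false

open Subgroup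
open scoped commutatorElement Classical

namespace CfsgLib.MaxClassEss

open CfsgLib.MaxClassShift (gam gam_normal gam_anti gam_one gam_comm)
open CfsgLib.MaxClassUniform (Uniform gam_le_twoStepAt)
open CfsgLib.PGroup.MaxClassRank (twoStepAt layer_gen)
open CfsgLib.RegUnip (M2 GLw ent dg Deg shiftN Uni mem_Uni deg_iff ent_sub ent_one ent_fin)

universe u v

variable {G : Type u} [Group G] [Finite G] {p n k m : ℕ} [hpf : Fact p.Prime] {x : G}
  {H : Type v} [Group H]

/-- The data of a section `γ_k / γ_(k+m)` of exponent `p` with abelian quotient. -/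
structure Sect (x : G) (p n k m : ℕ) (ι : H →* G) (b : G) : Prop where
  uniform : Uniform x p n
  two : 2 ≤ k
  le : k + m ≤ n
  mem : b ∈ gam G k
  notMem : b ∉ gam G (k + 1)
  inj : Function.Injective ι
  range : ι.range = gam G k
  comm : ∀ a c : H, ι ⁅a, c⁆ ∈ gam G (k + m)
  pow : ∀ a : H, ι (a ^ p) ∈ gam G (k + m)

/-- Coordinates on the section. -/
structure Coord (p m : ℕ) {H : Type v} [Group H] (ι : H →* G) (k : ℕ) (w : ℕ → H)
    (φ : H → Fin m → ZMod p) : Prop where
  add : ∀ a c, φ (a * c) = φ a + φ c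
  zero : ∀ a, φ a = 0 ↔ ι a ∈ gam G (k + m)
  base : ∀ j : Fin m, φ (w j) = Pi.single j 1

variable {ι : H →* G} {b : G}

theorem Sect.exists_lift (S : Sect x p n k m ι b) : ∃ w : ℕ → H, ∀ j, ι (w j) = seq x b j :=
  ⟨fun j => (S.range.ge (gam_anti (show k ≤ k + j by omega) (seq_mem (by have := S.two; omega) S.mem j))).choose,
    fun j => (S.range.ge (gam_anti (show k ≤ k + j by omega) (seq_mem (by have := S.two; omega) S.mem j))).choose_spec⟩

/-- Coordinates on an elementary abelian group. -/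
theorem exists_coord_add {A : Type*} [AddCommGroup A] [Finite A] (hA : ∀ a : A, p • a = 0)
    (v : Fin m → A) (hgen : ∀ C : AddSubgroup A, (∀ j, v j ∈ C) → C = ⊤) (hc : Nat.card A = p ^ m) :
    ∃ e : A →+ (Fin m → ZMod p), Function.Injective e ∧ ∀ j, e (v j) = Pi.single j 1 := by
  haveI : Module (ZMod p) A := AddCommGroup.zmodModule hA
  have hsurj : Function.Surjective (Fintype.linearCombination (ZMod p) v) := by
    intro a
    refine (hgen (LinearMap.range (Fintype.linearCombination (ZMod p) v)).toAddSubgroup fun j => ?_).ge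
      (AddSubgroup.mem_top a)
    exact ⟨Pi.single j 1, by rw [Fintype.linearCombination_apply_single, one_smul]⟩
  have hbij : Function.Bijective (Fintype.linearCombination (ZMod p) v) := by
    haveI : Fintype (Fin m → ZMod p) := Fintype.ofFinite _
    haveI : Fintype A := Fintype.ofFinite _
    refine (Fintype.bijective_iff_surjective_and_card _).2 ⟨hsurj, ?_⟩
    rw [← Nat.card_eq_fintype_card, ← Nat.card_eq_fintype_card, hc, Nat.card_pi]
    simp
  let e := LinearEquiv.ofBijective (Fintype.linearCombination (ZMod p) v) hbij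
  refine ⟨e.symm.toAddMonoidHom, e.symm.injective, fun j => e.injective ?_⟩
  show e (e.symm (v j)) = _
  rw [LinearEquiv.apply_symm_apply, LinearEquiv.ofBijective_apply, Fintype.linearCombination_apply_single,
    one_smul]

variable {w : ℕ → H} (hw : ∀ j, ι (w j) = seq x b j)
include hw

/-- Induction along the sequence. -/
theorem Sect.mem_of_seq (S : Sect x p n k m ι b) (C : Subgroup H) (hq : ∀ a, ι a ∈ gam G (k + m) → a ∈ C)
    {j : ℕ} (hjm : j ≤ m) (hC : ∀ l, j ≤ l → l < m → w l ∈ C) {a : H} (ha : ι a ∈ gam G (k + j)) :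
    a ∈ C := by
  have hle := gam_le_of_seq S.uniform S.two S.le S.mem S.notMem (C.map ι) (fun v hv => by
      obtain ⟨c, rfl⟩ := S.range.ge (gam_anti (show k ≤ k + m by omega) hv)
      exact mem_map_of_mem ι (hq c hv)) hjm (fun l h1 h2 => ⟨w l, hC l h1 h2, hw l⟩)
  obtain ⟨c, hc, hca⟩ := hle ha
  rwa [← S.inj hca]

/-- The coordinates exist. -/
theorem Sect.exists_coord (S : Sect x p n k m ι b) : ∃ φ, Coord p m ι k w φ := by
  haveI := gam_normal (G := G) (k + m)
  set W : Subgroup H := (gam G (k + m)).comap ι with hW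
  letI : CommGroup (H ⧸ W) := { QuotientGroup.Quotient.group W with
    mul_comm := fun u v => by
      obtain ⟨u, rfl⟩ := QuotientGroup.mk_surjective u
      obtain ⟨v, rfl⟩ := QuotientGroup.mk_surjective v
      refine (QuotientGroup.eq (s := W)).2 ?_
      rw [show (u * v)⁻¹ * (v * u) = ⁅v⁻¹, u⁻¹⁆ by rw [commutatorElement_def]; group]
      exact S.comm _ _ }
  haveI : Finite H := Finite.of_injective ι S.inj
  haveI : Finite (H ⧸ W) := Quotient.finite _
  haveI : Finite (Additive (H ⧸ W)) := Finite.of_equiv _ Additive.ofMul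
  obtain ⟨e, he, hbase⟩ := exists_coord_add (p := p) (A := Additive (H ⧸ W)) (fun u => by
      obtain ⟨a, ha⟩ := QuotientGroup.mk_surjective (Additive.toMul u)
      apply Additive.toMul.injective
      rw [toMul_nsmul, toMul_zero, ← ha, ← QuotientGroup.mk_pow, QuotientGroup.eq_one_iff]
      exact S.pow a) (fun j : Fin m => Additive.ofMul (QuotientGroup.mk (w j))) (fun C hC => by
      refine (AddSubgroup.eq_top_iff' C).2 fun u => ?_
      obtain ⟨a, ha⟩ := QuotientGroup.mk_surjective (Additive.toMul u)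
      let D : Subgroup H :=
        { carrier := {a | Additive.ofMul (a : H ⧸ W) ∈ C}
          one_mem' := C.zero_mem
          mul_mem' := fun {a c} ha hc => C.add_mem ha hc
          inv_mem' := fun {a} ha => C.neg_mem ha }
      have hmem : a ∈ D := by
        refine S.mem_of_seq hw D (fun c hc => ?_) (Nat.zero_le m) (fun l _ hl => hC ⟨l, hl⟩)
          (S.range.le ⟨a, rfl⟩)
        show Additive.ofMul (c : H ⧸ W) ∈ C
        rw [(QuotientGroup.eq_one_iff c).2 hc]
        exact C.zero_mem
      have hmem' : Additive.ofMul (a : H ⧸ W) ∈ C := hmem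
      rw [ha] at hmem'
      exact hmem') (by
      rw [Nat.card_congr Additive.toMul, ← index_eq_card, hW, index_comap, S.range]
      have e := relIndex_mul_index (gam_anti (G := G) (show k ≤ k + m by omega))
      rw [S.uniform.index_gam S.two (by have := S.le; omega),
        S.uniform.index_gam (by have := S.two; omega) S.le, pow_add, mul_comm (p ^ k)] at e
      exact Nat.eq_of_mul_eq_mul_right (pow_pos hpf.out.pos k) e)
  refine ⟨fun a => e (Additive.ofMul (a : H ⧸ W)), fun a c => map_add e (Additive.ofMul (a : H ⧸ W))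
    (Additive.ofMul (c : H ⧸ W)), fun a => ?_, fun j => hbase j⟩
  rw [map_eq_zero_iff e he]
  exact QuotientGroup.eq_one_iff a

variable {φ : H → Fin m → ZMod p}

omit hw in
theorem Coord.one (C : Coord p m ι k w φ) : φ 1 = 0 := (C.zero 1).2 (by rw [map_one]; exact one_mem _)

omit hw in
theorem Coord.zpow (C : Coord p m ι k w φ) (a : H) (z : ℤ) : φ (a ^ z) = z • φ a := by
  induction z using Int.induction_on with
  | zero => rw [zpow_zero, C.one, zero_smul]
  | succ i ih => rw [zpow_add_one, C.add, ih, add_smul, one_smul]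
  | pred i ih =>
    have h1 := C.add (a ^ (-(i : ℤ) - 1)) a
    rw [← zpow_add_one, sub_add_cancel, ih] at h1
    rw [sub_smul, one_smul, h1, add_sub_cancel_right]

omit hw in
theorem Coord.inv (C : Coord p m ι k w φ) (a : H) : φ a⁻¹ = -φ a := by
  have h1 := C.add a⁻¹ a
  rw [inv_mul_cancel, C.one] at h1
  exact eq_neg_of_add_eq_zero_left h1.symm

/-- Deep elements have no low coordinates. -/
theorem Sect.coord_low (S : Sect x p n k m ι b) (C : Coord p m ι k w φ) {a : H} {j : ℕ}
    (hjm : j ≤ m) (ha : ι a ∈ gam G (k + j)) {i : Fin m} (hi : (i : ℕ) < j) : φ a i = 0 := by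
  let D : Subgroup H :=
    { carrier := {c | φ c i = 0}
      one_mem' := by show φ 1 i = 0; rw [C.one]; rfl
      mul_mem' := fun {c d} hc hd => by
        show φ (c * d) i = 0
        rw [C.add, Pi.add_apply, show φ c i = 0 from hc, show φ d i = 0 from hd, add_zero]
      inv_mem' := fun {c} hc => by
        show φ c⁻¹ i = 0
        rw [C.inv, Pi.neg_apply, show φ c i = 0 from hc, neg_zero] }
  refine S.mem_of_seq hw D (fun c hc => ?_) hjm (fun l hl hlm => ?_) ha
  · show φ c i = 0
    rw [(C.zero c).2 hc]; rfl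
  · show φ (w l) i = 0
    rw [C.base ⟨l, hlm⟩, Pi.single_eq_of_ne]
    intro e
    have := congrArg Fin.val e
    simp at this
    omega

/-- A deep element with vanishing leading coordinate is deeper. -/
theorem Sect.coord_succ (S : Sect x p n k m ι b) (C : Coord p m ι k w φ) {a : H} {j : Fin m}
    (ha : ι a ∈ gam G (k + j)) (h0 : φ a j = 0) : ι a ∈ gam G (k + j + 1) := by
  have hk := S.two
  have hj := j.2
  obtain ⟨z, hz⟩ := layer_gen S.uniform.isPGroup S.uniform.card S.uniform.three S.uniform.class_eq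
    (show 2 ≤ k + (j : ℕ) by omega) (show k + (j : ℕ) < n by have := S.le; omega) (seq_mem (by omega) S.mem _)
    (seq_notMem S.uniform hk S.mem S.notMem _ (by have := S.le; omega)) ha
  rw [← hw, ← map_zpow, ← map_inv, ← map_mul] at hz
  have h1 := S.coord_low hw C (j := j + 1) hj (by rw [← add_assoc]; exact hz) (i := j) (by omega)
  rw [C.add, C.inv, C.zpow, C.base j, Pi.add_apply, h0, add_zero, Pi.neg_apply, neg_eq_zero,
    Pi.smul_apply, Pi.single_eq_same, zsmul_one, ZMod.intCast_zmod_eq_zero_iff_dvd] at h1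
  obtain ⟨r, rfl⟩ := h1
  have h2 : ι (w j ^ ((p : ℤ) * r)) ∈ gam G (k + j + 1) := by
    rw [zpow_mul, zpow_natCast, map_zpow]
    exact zpow_mem (gam_anti (show k + (j : ℕ) + 1 ≤ k + m by omega) (S.pow _)) r
  have h3 := mul_mem h2 hz
  rwa [← map_mul, mul_inv_cancel_left] at h3

omit hw in
/-- The matrix of an automorphism. -/
def mat (φ : H → Fin m → ZMod p) (w : ℕ → H) (σ : MulAut H) : M2 p m :=
  Matrix.of fun i j => φ (σ (w j)) i

theorem Sect.apply_eq (S : Sect x p n k m ι b) (C : Coord p m ι k w φ) {σ : MulAut H}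
    (hσ : ∀ a, ι a ∈ gam G (k + m) → ι (σ a) ∈ gam G (k + m)) (a : H) :
    φ (σ a) = (mat φ w σ).mulVec (φ a) := by
  let D : Subgroup H :=
    { carrier := {c | φ (σ c) = (mat φ w σ).mulVec (φ c)}
      one_mem' := by show φ (σ 1) = _; rw [map_one, C.one, Matrix.mulVec_zero]
      mul_mem' := fun {c d} hc hd => by
        show φ (σ (c * d)) = _
        rw [map_mul, C.add, C.add, Matrix.mulVec_add]
        exact congrArg₂ (· + ·) hc hd
      inv_mem' := fun {c} hc => by
        show φ (σ c⁻¹) = _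
        rw [map_inv, C.inv, C.inv, Matrix.mulVec_neg]
        exact congrArg (- ·) hc }
  refine S.mem_of_seq hw D (fun c hc => ?_) (Nat.zero_le m) (fun l _ hl => ?_)
    (S.range.le ⟨a, rfl⟩)
  · show φ (σ c) = _
    rw [(C.zero _).2 (hσ c hc), (C.zero _).2 hc, Matrix.mulVec_zero]
  · show φ (σ (w l)) = _
    rw [C.base ⟨l, hl⟩, Matrix.mulVec_single_one]
    rfl

theorem Sect.mat_mul (S : Sect x p n k m ι b) (C : Coord p m ι k w φ) {σ τ : MulAut H}
    (hσ : ∀ a, ι a ∈ gam G (k + m) → ι (σ a) ∈ gam G (k + m)) :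
    mat φ w (σ * τ) = mat φ w σ * mat φ w τ := by
  refine Matrix.ext fun i j => ?_
  show φ (σ (τ (w j))) i = _
  rw [S.apply_eq hw C hσ, Matrix.mul_apply]
  rfl

omit hw in
theorem Coord.mat_one (C : Coord p m ι k w φ) : mat φ w (1 : MulAut H) = 1 := by
  refine Matrix.ext fun i j => ?_
  show φ (w j) i = _
  rw [C.base j, Matrix.one_apply, Pi.single_apply]

/-- The action of a group of automorphisms preserving the bottom of the section. -/
noncomputable def Sect.action (S : Sect x p n k m ι b) (C : Coord p m ι k w φ) (A : Subgroup (MulAut H))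
    (hA : ∀ σ ∈ A, ∀ a, ι a ∈ gam G (k + m) → ι (σ a) ∈ gam G (k + m)) : A →* GLw p m :=
  MonoidHom.toHomUnits
    { toFun := fun σ => mat φ w (σ : MulAut H)
      map_one' := C.mat_one
      map_mul' := fun σ τ => S.mat_mul hw C (hA σ σ.2) }

omit hw in
theorem Coord.ent_mat (C : Coord p m ι k w φ) (σ : MulAut H) {i j : ℕ} (hi : i < m) (hj : j < m) :
    ent (mat φ w σ) i j = φ (σ (w j)) ⟨i, hi⟩ := by
  exact ent_fin (mat φ w σ) ⟨i, hi⟩ ⟨j, hj⟩

omit hw in
/-- A column of the matrix. -/
theorem Coord.ent_mat_sub (C : Coord p m ι k w φ) (σ : MulAut H) {i j : ℕ} (hi : i < m) (hj : j < m) :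
    ent (mat φ w σ - 1) i j = φ (σ (w j) * (w j)⁻¹) ⟨i, hi⟩ := by
  rw [ent_sub, C.ent_mat σ hi hj, ent_one hi, C.add, C.inv, C.base ⟨j, hj⟩, Pi.add_apply, Pi.neg_apply,
    Pi.single_apply, sub_eq_add_neg]
  simp [Fin.ext_iff]

variable {σ : MulAut H} {g : G}

theorem Sect.step_mem (S : Sect x p n k m ι b) (hg : ∀ a, ι (σ a) = g * ι a * g⁻¹) (j : ℕ) :
    ι (σ (w j) * (w j)⁻¹) = ⁅g, seq x b j⁆ ∧ ⁅g, seq x b j⁆ ∈ gam G (k + j + 1) := by
  refine ⟨by rw [map_mul, map_inv, hg, hw]; rfl, ?_⟩
  have h1 := gam_comm (a := 1) (b := k + j) le_rfl (by have := S.two; omega) (mem_top g)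
    (seq_mem (x := x) (by have := S.two; omega) S.mem j)
  rwa [show 1 + (k + j) = k + j + 1 by ring] at h1

/-- Conjugations act by unipotent matrices. -/
theorem Sect.mat_deg (S : Sect x p n k m ι b) (C : Coord p m ι k w φ)
    (hg : ∀ a, ι (σ a) = g * ι a * g⁻¹) : Deg (dg m) (dg m) (mat φ w σ - 1) 1 := by
  refine deg_iff.2 fun i j hij => ?_
  by_cases hlt : i < m ∧ j < m
  · rw [C.ent_mat_sub σ hlt.1 hlt.2]
    obtain ⟨h1, h2⟩ := S.step_mem hw hg j
    exact S.coord_low hw C (j := j + 1) hlt.2 (by rw [h1, ← add_assoc]; exact h2) (by push_cast at hij ⊢; omega)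
  · exact CfsgLib.RegUnip.ent_of_le (by omega)

/-- The first subdiagonal of a conjugation reads the two step centralizers. -/
theorem Sect.subdiag_iff (S : Sect x p n k m ι b) (C : Coord p m ι k w φ)
    (hg : ∀ a, ι (σ a) = g * ι a * g⁻¹) {j : ℕ} (hj : j + 1 < m) :
    ent (mat φ w σ) (j + 1) j = 0 ↔ g ∈ twoStepAt G (k + j) := by
  have hk := S.two
  have hle := S.le
  have he : ent (mat φ w σ) (j + 1) j = φ (σ (w j) * (w j)⁻¹) ⟨j + 1, hj⟩ := by
    rw [← C.ent_mat_sub σ hj (by omega), ent_sub, ent_one hj, if_neg (by omega), sub_zero]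
  rw [he]
  obtain ⟨h1, h2⟩ := S.step_mem hw hg j
  constructor
  · intro h0
    refine mem_twoStepAt_of_gen S.uniform (by omega) (by omega) (seq_mem (by omega) S.mem j)
      (seq_notMem S.uniform hk S.mem S.notMem j (by omega)) ?_
    have h3 := S.coord_succ hw C (j := (⟨j + 1, hj⟩ : Fin m)) (by rw [h1, ← add_assoc]; exact h2) h0
    rw [h1] at h3
    exact h3
  · intro hgT
    refine S.coord_low hw C (j := j + 2) (by omega) ?_ (by simp)
    rw [h1, ← add_assoc]
    exact hgT _ (seq_mem (by omega) S.mem j)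

/-- The uniform element acts as `1 + shift`. -/
theorem Sect.mat_shift (S : Sect x p n k m ι b) (C : Coord p m ι k w φ)
    (hg : ∀ a, ι (σ a) = x * ι a * x⁻¹) : mat φ w σ = 1 + shiftN (ZMod p) m := by
  rw [← sub_eq_iff_eq_add']
  refine CfsgLib.RegUnip.ext_ent fun i j hi hj => ?_
  rw [C.ent_mat_sub σ hi hj, CfsgLib.RegUnip.ent_shiftN]
  obtain ⟨h1, -⟩ := S.step_mem hw hg j
  have h2 : σ (w j) * (w j)⁻¹ = w (j + 1) := S.inj (by rw [h1, hw]; rfl)
  rw [h2]
  by_cases hj1 : j + 1 < m
  · rw [C.base ⟨j + 1, hj1⟩, Pi.single_apply]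
    simp [Fin.ext_iff, hi]
  · rw [(C.zero _).2 (gam_anti (show k + m ≤ k + (j + 1) by omega)
      (by rw [hw]; exact seq_mem (by have := S.two; omega) S.mem _)), if_neg (by omega)]
    rfl

end CfsgLib.MaxClassEss
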