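import Cfsg.Agent.Lib.MaxClassEss.Section
import Cfsg.Agent.Lib.MaxClassEss.Frattini
import Cfsg.Agent.Lib.Fusion.System.MaxClassCubeEssential

/-!
# Normal essential subgroups of a group of maximal class have index `p`
-/

set_option autoImplicit false
set_option linter.style.haveILetI false
set_option linter.unusedSectionVars false

open Subgroup
open scoped commutatorElement Classical

namespace CfsgLib.MaxClassEss

open Cfsg (FusionSystem autInducedBy)
open Cfsg.FusionSystem (centralizerIn)
open CfsgLib.Fusion (conjAut conjAut_mem mem_autInducedBy_iff autFun autFun_coe isFullyAutomized_iff finite_of_le finite_mulAut)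
open CfsgLib.MaxClassShift (gam gam_normal gam_anti gam_one gam_comm)
open CfsgLib.MaxClassUniform (Uniform gam_le_twoStepAt exists_uniform)
open CfsgLib.PGroup.MaxClassRank (twoStepAt)

universe u

variable {Ω : Type u} [Group Ω] {S : Subgroup Ω} [Finite S] {p n : ℕ} [hpf : Fact p.Prime]
  {F : FusionSystem S} {E : Subgroup Ω}

theorem centralizer_le (hE : F.IsEssential p E) {g : Ω} (hg : g ∈ S)
    (hc : ∀ e ∈ E, e * g = g * e) : g ∈ E :=
  hE.1.2 E (CfsgLib.Fusion.isConj_refl hE.1.1) ⟨hg, mem_centralizer_iff.2 hc⟩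

/-- A term of the series with a small centralizer is not too deep. -/
theorem gam_centralizer {G : Type u} [Group G] [Finite G] {x : G} (h : Uniform x p n) (h4 : 4 ≤ n) {k : ℕ}
    (hk : n - 2 ≤ k) {g : G} (hg : g ∈ twoStepAt G (n - 2)) {v : G} (hv : v ∈ gam G k) : g * v = v * g := by
  have h1 := hg v (gam_anti hk hv)
  rw [h.gam_eq_bot (show n ≤ n - 2 + 2 by omega), mem_bot, commutatorElement_eq_one_iff_mul_comm] at h1
  exact h1

theorem index_eq_prime (hp5 : 5 ≤ p) (hS : IsPGroup p S) (hn : Nat.card S = p ^ n) (h4 : 4 ≤ n)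
    (hcl : Group.nilpotencyClass S = n - 1) (hF : F.IsSaturated p) (hE : F.IsEssential p E)
    (hEn : (E.subgroupOf S).Normal) : (E.subgroupOf S).index = p := by
  have hpp := hpf.out
  have hES := hE.1.1
  haveI := finite_of_le hES
  haveI := finite_mulAut (P := E)
  haveI := hEn
  have hEp : IsPGroup p E := hS.to_le hES
  obtain ⟨x, hx, -⟩ := exists_uniform n S hS hn (by omega) hcl ⊥ (fun e => by
    have h1 := congrArg (fun K : Subgroup S => Nat.card K) e
    simp only [card_bot, card_top, hn] at h1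
    exact absurd h1.symm (Nat.one_lt_pow (by omega) hpp.one_lt).ne')
  set ι := inclusion hES with hι
  have hιr : ι.range = E.subgroupOf S := inclusion_range hES
  obtain ⟨k, hkn, hk⟩ := (Nat.dvd_prime_pow hpp).1 (hn ▸ (E.subgroupOf S).index_dvd_card)
  obtain ⟨hcore, hidx⟩ := CfsgLib.Fusion.EssentialCube.autGroup_data hS hE
  rcases Nat.lt_or_ge k 2 with hk2 | hk2
  · rcases (show k = 0 ∨ k = 1 by omega) with rfl | rfl
    · exfalso
      rw [pow_zero, index_eq_one] at hk
      have hSE : S ≤ E := fun g hg => hk.ge (mem_top (⟨g, hg⟩ : S))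
      have hfa := ((isFullyAutomized_iff hS).1
        (CfsgLib.Fusion.IsSaturated.automized_receptive hS hF hE.2.1).1).2
      refine hfa (hidx.trans (Subgroup.index_dvd_of_le ?_))
      intro α hα
      obtain ⟨g, hg, hact⟩ := mem_autInducedBy_iff.1 (mem_subgroupOf.1 hα)
      refine mem_subgroupOf.2 ⟨⟨g, hSE hg⟩, MulEquiv.ext fun e => Subtype.ext ?_⟩
      rw [← autFun_coe (α : MulAut E) e, hact e e.2]
      rfl
    · rw [hk, pow_one]
  exfalso
  -- `E` is a term of the series
  have hR : E.subgroupOf S = gam S k := by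
    refine (eq_of_le_of_card_ge (CfsgLib.PGroup.lowerCentralSeries_le_of_index hS hk2 hk) ?_).symm
    have e1 := (E.subgroupOf S).card_mul_index
    have e2 := (gam S k).card_mul_index
    rw [hx.index_gam hk2 hkn] at e2
    rw [hk, ← e2] at e1
    exact (Nat.eq_of_mul_eq_mul_right (pow_pos hpp.pos k) e1).le
  have hk3 : k + 3 ≤ n := by
    by_contra hlt
    have hle : twoStepAt S (n - 2) ≤ E.subgroupOf S := fun g hg => mem_subgroupOf.2
      (centralizer_le hE g.2 fun e he => (congrArg Subtype.val (gam_centralizer hx h4 (show n - 2 ≤ k by omega)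
        hg (v := (⟨e, hES he⟩ : S)) (hR.le (mem_subgroupOf.2 he)))).symm)
    have h1 := index_dvd_of_le hle
    rw [index_twoStepAt hx (by omega) (by omega), hk] at h1
    have := Nat.le_of_dvd hpp.pos h1
    have := (Nat.pow_le_pow_iff_right hpp.one_lt).1 (this.trans (pow_one p).ge)
    omega
  -- the conjugations
  have hnor : ∀ g : S, (g : Ω) ∈ normalizer (E : Set Ω) := fun g =>
    ((normal_subgroupOf_iff_le_normalizer hES).1 hEn) g.2
  let c : S →* F.autGroup E := MonoidHom.mk'
    (fun g => ⟨conjAut g (hnor g), CfsgLib.Fusion.autInducedBy_le_autGroup hES (conjAut_mem g.2 _)⟩)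
    fun a b => Subtype.ext (MulEquiv.ext fun e => Subtype.ext (by
      show ((a * b : S) : Ω) * e * ((a * b : S) : Ω)⁻¹ = (a : Ω) * ((b : Ω) * e * (b : Ω)⁻¹) * (a : Ω)⁻¹
      rw [Subgroup.coe_mul]; group))
  have hconj : ∀ g a, ι ((c g : MulAut E) a) = g * ι a * g⁻¹ := fun g a => rfl
  -- the Frattini subgroup
  have hNn : ((frattini E).map ι).Normal := ⟨by
    rintro _ ⟨a, ha, rfl⟩ g
    exact ⟨(c g : MulAut E) a, mem_frattini_iff_apply.2 ha, hconj g a⟩⟩
  obtain ⟨q, hkq, hqn, hq⟩ := normal_eq_gam hx hk2 (by omega)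
    (show (frattini E).map ι ≤ gam S k by rw [← hR, ← hιr]; exact map_le_range _ _)
  have hfr : ∀ a : E, ι a ∈ gam S q ↔ a ∈ frattini E := fun a => by
    rw [← hq, mem_map_iff_mem (inclusion_injective hES)]
  have hkq' : k < q := by
    rcases hkq.lt_or_eq with h | h
    · exact h
    · exfalso
      have h1 : frattini E = ⊤ := eq_top_iff.2 fun a _ => (hfr a).1 (by rw [← h, ← hR]; exact hιr.le ⟨a, rfl⟩)
      have h2 : (⊥ : Subgroup E) = ⊤ := frattini_nongenerating (by rw [bot_sup_eq]; exact h1)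
      have h3 := congrArg (fun K : Subgroup E => Nat.card K) h2
      simp only [card_bot, card_top] at h3
      have h4' := congrArg (fun K : Subgroup S => Nat.card K) hR
      rw [Nat.card_congr (subgroupOfEquivOfLe hES).toEquiv, ← h3, hx.card_gam hk2 hkn] at h4'
      exact absurd h4' (Nat.one_lt_pow (by omega) hpp.one_lt).ne
  obtain ⟨b, hb, hb'⟩ := exists_layer hx hk2 (show k < n by omega)
  have hqp : q ≤ k + p - 1 := by
    by_contra hlt
    obtain ⟨-, h2⟩ := hx.pow_shift n k hk2 (by omega) b hb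
    obtain ⟨a, rfl⟩ : b ∈ ι.range := (hιr.trans hR).ge hb
    refine h2 hb' (by omega) (gam_anti (show k + p ≤ q by omega) ?_)
    rw [← map_pow]
    exact (hfr _).2 (CfsgLib.Coprime.pow_mem_frattini hEp a)
  obtain ⟨m, rfl⟩ : ∃ m, q = k + m := ⟨q - k, by omega⟩
  have hsect : Sect x p n k m ι b := ⟨hx, hk2, hqn, hb, hb', inclusion_injective hES, hιr.trans hR,
    fun a c => (hfr _).2 (CfsgLib.Coprime.commutator_le_frattini hEp (commutator_mem_commutator (mem_top a) (mem_top c))),
    fun a => (hfr _).2 (CfsgLib.Coprime.pow_mem_frattini hEp a)⟩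
  have hauto : Auto x p n k m ι (F.autGroup E) c := by
    have hcoreK : ∀ R : Subgroup (F.autGroup E), R.Normal → IsPGroup p R → ∀ σ ∈ R,
        ∃ e : E, ∀ a : E, (σ : MulAut E) a = e * a * e⁻¹ := by
      intro R hRn hRp σ hσ
      obtain ⟨e, he⟩ := mem_subgroupOf.1 (hcore.le (CfsgLib.PGroup.le_pCore hRn hRp hσ))
      exact ⟨e, fun a => (DFunLike.congr_fun he a).symm⟩
    refine ⟨fun σ _ a ha => (hfr _).2 (mem_frattini_iff_apply.2 ((hfr a).1 ha)), hconj, ?_, ?_, ?_, ?_⟩
    · intro hd
      refine ((isFullyAutomized_iff hS).1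
        (CfsgLib.Fusion.IsSaturated.automized_receptive hS hF hE.2.1).1).2 (hd.trans (index_dvd_of_le ?_))
      intro α hα
      obtain ⟨g, hg, hact⟩ := mem_autInducedBy_iff.1 (mem_subgroupOf.1 hα)
      refine ⟨⟨g, hg⟩, Subtype.ext (MulEquiv.ext fun e => Subtype.ext ?_)⟩
      rw [← autFun_coe (α : MulAut E) e, hact e e.2]
      rfl
    · intro R hRn hRp σ hσ a
      obtain ⟨e, he⟩ := hcoreK R hRn hRp σ hσ
      rw [hfr, he]
      exact CfsgLib.Coprime.commutator_le_frattini hEp
        (by rw [show e * a * e⁻¹ * a⁻¹ = ⁅e, a⁆ by rw [commutatorElement_def]]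
            exact commutator_mem_commutator (mem_top e) (mem_top a))
    · intro R hR
      have h1 : IsPGroup p (R.map (F.autGroup E).subtype) := isPGroup_of_frAct hEp _ (by
        rintro _ ⟨σ, hσ, rfl⟩
        exact frAct_eq_one_iff.2 fun a => (hfr _).1 (hR σ hσ a))
      exact h1.of_equiv (R.equivMapOfInjective _ (subtype_injective _)).symm
    · intro g hg
      set K := (frAct.comp (F.autGroup E).subtype).ker with hK
      have hKp : IsPGroup p K := by
        have h1 : IsPGroup p (K.map (F.autGroup E).subtype) := isPGroup_of_frAct hEp _ (by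
          rintro _ ⟨σ, hσ, rfl⟩
          exact hσ)
        exact h1.of_equiv (K.equivMapOfInjective _ (subtype_injective _)).symm
      obtain ⟨e, he⟩ := hcoreK K inferInstance hKp (c g) (frAct_eq_one_iff.2 fun a => (hfr _).1 (hg a))
      have hge : (e : Ω)⁻¹ * g ∈ E := by
        refine centralizer_le hE (mul_mem (inv_mem (hES e.2)) g.2) fun a ha => ?_
        have h1 : (g : Ω) * a * (g : Ω)⁻¹ = (e : Ω) * a * (e : Ω)⁻¹ := congrArg Subtype.val (he ⟨a, ha⟩)
        calc a * ((e : Ω)⁻¹ * g) = (e : Ω)⁻¹ * ((e : Ω) * a * (e : Ω)⁻¹) * g := by group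
          _ = (e : Ω)⁻¹ * ((g : Ω) * a * (g : Ω)⁻¹) * g := by rw [h1]
          _ = (e : Ω)⁻¹ * g * a := by group
      rw [← hR, mem_subgroupOf]
      have h2 := mul_mem e.2 hge
      rwa [mul_inv_cancel_left] at h2
  obtain ⟨rfl, hkmn⟩ := no_section hp5 hsect hauto (by omega) (by omega) hk3
  -- the elementary cube
  have hbot : ∀ a : E, ι a ∈ gam S (k + 3) → a = 1 := fun a ha => by
    rw [hx.gam_eq_bot hkmn.ge, mem_bot] at ha
    exact inclusion_injective hES (ha.trans (map_one ι).symm)
  refine CfsgLib.Fusion.MaxClassCubeEssential.no_elementary_cube hp5 hS hn (show 5 ≤ n by omega) hcl hF hE ?_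
    (fun a b => commutatorElement_eq_one_iff_mul_comm.1 (hbot _ (hsect.comm a b)))
    fun a => hbot _ (hsect.pow a)
  rw [← Nat.card_congr (subgroupOfEquivOfLe hES).toEquiv, hR, hx.card_gam hk2 hkn,
    show n - k = 3 by omega]

end CfsgLib.MaxClassEss
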