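import Cfsg.Agent.Lib.MaxClassEss.Deep

/-!
# Essential maximal subgroups of a group of maximal class
-/

set_option autoImplicit false
set_option linter.style.haveILetI false
set_option linter.unusedSectionVars false

open Subgroup
open scoped commutatorElement Classical

namespace CfsgLib.MaxClassEss

open Cfsg (FusionSystem)
open CfsgLib.Fusion (finite_of_le)
open CfsgLib.MaxClassShift (gam gam_normal gam_anti gam_one gam_comm)
open CfsgLib.MaxClassUniform (Uniform gam_le_twoStepAt exists_uniform uniform_of_notMem)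
open CfsgLib.PGroup.MaxClassRank (twoStepAt)

universe u v

theorem twoStepAt_apply {H : Type v} [Group H] (σ : MulAut H) {i : ℕ} {g : H} (hg : g ∈ twoStepAt H i) :
    σ g ∈ twoStepAt H i := by
  intro w hw
  have h1 := hg (σ⁻¹ w) (CfsgLib.MaxClassWeight.map_gam_le ((σ⁻¹ : MulAut H) : H →* H) hw)
  have h2 := CfsgLib.MaxClassWeight.map_gam_le (σ : H →* H) h1
  rw [MonoidHom.coe_coe, map_commutatorElement, MulAut.apply_inv_self] at h2
  exact h2

variable {H : Type v} [Group H] [Finite H] {p n : ℕ} [hpf : Fact p.Prime]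

/-- A group of maximal class of order at least `p⁴` is not essential. -/
theorem no_maximal_class {x : H} (hx : Uniform x p n) (h4 : 4 ≤ n) (X : Subgroup (MulAut H))
    (hcore : Cfsg.pCore p X = (Cfsg.Inn H).subgroupOf X) (hdvd : p ∣ ((Cfsg.Inn H).subgroupOf X).index) : False := by
  have hp := hpf.out
  set T := twoStepAt H 2 with hT
  have hle : gam H 2 ≤ T := gam_le_twoStepAt hx.isPGroup (by omega)
  have hTc : Nat.card T * p = p ^ n := by
    rw [← hx.card, ← T.card_mul_index, index_twoStepAt hx le_rfl (by omega)]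
  refine CfsgLib.Fusion.EssentialFourth.no_char_chain hx.isPGroup X hcore hdvd
    (fun i => if i = 0 then ⊤ else if i = 1 then T else gam H i) n (if_pos rfl) ?_ ?_ ?_ ?_
  · simp only [show n ≠ 0 by omega, show n ≠ 1 by omega, if_false]
    exact hx.gam_eq_bot le_rfl
  · intro i σ y hy
    split_ifs at hy ⊢
    · exact mem_top _
    · exact twoStepAt_apply σ hy
    · exact CfsgLib.MaxClassWeight.map_gam_le (σ : H →* H) hy
  · intro i
    rcases (show i = 0 ∨ i = 1 ∨ 2 ≤ i by omega) with rfl | rfl | h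
    · simp
    · simpa using hle
    · simp only [show i + 1 ≠ 0 by omega, show i + 1 ≠ 1 by omega, show i ≠ 0 by omega, show i ≠ 1 by omega, if_false]
      exact gam_anti (by omega)
  · intro i hi
    rcases (show i = 0 ∨ i = 1 ∨ 2 ≤ i by omega) with rfl | rfl | h
    · simp only [Nat.zero_add, if_true, one_ne_zero, if_false, card_top, hx.card, ← hTc, mul_comm]
      exact le_rfl
    · simp only [one_ne_zero, if_false, if_true, show (1 + 1 : ℕ) ≠ 0 by omega, show (1 + 1 : ℕ) ≠ 1 by omega,
        hx.card_gam (show 2 ≤ 1 + 1 from le_rfl) (show 1 + 1 ≤ n by omega)]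
      refine Nat.le_of_mul_le_mul_right (le_of_eq ?_) hp.pos
      rw [hTc, mul_comm p, mul_assoc, ← pow_two, ← pow_add]
      congr 1; omega
    · simp only [show i + 1 ≠ 0 by omega, show i + 1 ≠ 1 by omega, show i ≠ 0 by omega, show i ≠ 1 by omega,
        if_false, hx.card_gam h hi.le, hx.card_gam (show 2 ≤ i + 1 by omega) (show i + 1 ≤ n by omega)]
      rw [← pow_succ']
      exact Nat.pow_le_pow_right hp.pos (by omega)

variable {Ω : Type u} [Group Ω] {S : Subgroup Ω} [Finite S] {F : FusionSystem S} {E : Subgroup Ω}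

theorem upperCentralSeries_two_eq {G : Type u} [Group G] [Finite G] (hG : IsPGroup p G)
    (hn : Nat.card G = p ^ n) (h4 : 4 ≤ n) (hcl : Group.nilpotencyClass G = n - 1) :
    Subgroup.upperCentralSeries G 2 = gam G (n - 2) := by
  obtain ⟨x, hx, -⟩ := exists_uniform n G hG hn (by omega) hcl ⊥ (fun e => by
    have h1 := congrArg (fun K : Subgroup G => Nat.card K) e
    simp only [card_bot, card_top, hn] at h1
    exact absurd h1.symm (Nat.one_lt_pow (by omega) hpf.out.one_lt).ne')
  refine (eq_of_le_of_card_ge (fun v hv => Subgroup.mem_upperCentralSeries_succ_iff.2 fun y => ?_) ?_).symm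
  · rw [Subgroup.upperCentralSeries_one, mem_center_iff]
    intro z
    have h1 := gam_comm (a := n - 2) (b := 1) (by omega) le_rfl hv (mem_top y)
    have h2 := gam_comm (a := 1) (b := n - 2 + 1) le_rfl (by omega) (mem_top z) h1
    rw [hx.gam_eq_bot (show n ≤ 1 + (n - 2 + 1) by omega), mem_bot,
      commutatorElement_eq_one_iff_mul_comm] at h2
    exact h2
  · rw [CfsgLib.PGroup.card_upperCentralSeries_two hG hn h4 hcl, hx.card_gam (by omega) (by omega),
      show n - (n - 2) = 2 by omega]

theorem twoStepAt_last (hS : IsPGroup p S) (h4 : 4 ≤ n)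
    (hcl : Group.nilpotencyClass S = n - 1) : (twoStepAt S (n - 2)).map S.subtype =
      S ⊓ centralizer (((gam S (n - 2)).map S.subtype : Subgroup Ω) : Set Ω) := by
  have hbot : gam S (n - 2 + 2) = ⊥ := by
    haveI := hS.isNilpotent
    exact Subgroup.lowerCentralSeries_eq_bot_iff_nilpotencyClass_le.2 (by omega)
  ext g
  constructor
  · rintro ⟨g, hg, rfl⟩
    refine ⟨g.2, mem_centralizer_iff.2 ?_⟩
    rintro _ ⟨v, hv, rfl⟩
    have h1 := hg v hv
    rw [hbot, mem_bot, commutatorElement_eq_one_iff_mul_comm] at h1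
    exact (congrArg Subtype.val h1).symm
  · rintro ⟨hgS, hg⟩
    refine ⟨⟨g, hgS⟩, fun v hv => ?_, rfl⟩
    rw [show ⁅(⟨g, hgS⟩ : S), v⁆ = 1 from commutatorElement_eq_one_iff_mul_comm.2
      (Subtype.ext (mem_centralizer_iff.1 hg v ⟨v, hv, rfl⟩).symm)]
    exact one_mem _

theorem maximal_cases (hp5 : 5 ≤ p) (hS : IsPGroup p S) (hn : Nat.card S = p ^ n) (h4 : 4 ≤ n)
    (hcl : Group.nilpotencyClass S = n - 1) (hE : F.IsEssential p E)
    (hEn : (E.subgroupOf S).Normal) (hidx : (E.subgroupOf S).index = p) :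
    E.subgroupOf S = twoStepAt S 2 ∨ E.subgroupOf S = twoStepAt S (n - 2) ∨
      (n = 4 ∧ Nat.card E = p ^ 3 ∧ Cfsg.IsExtraspecial p E ∧ Monoid.exponent E = p) := by
  have hp := hpf.out
  have hES := hE.1.1
  haveI := finite_of_le hES
  obtain ⟨x, hx, -⟩ := exists_uniform n S hS hn (by omega) hcl ⊥ (fun e => by
    have h1 := congrArg (fun K : Subgroup S => Nat.card K) e
    simp only [card_bot, card_top, hn] at h1
    exact absurd h1.symm (Nat.one_lt_pow (by omega) hp.one_lt).ne')
  set R := E.subgroupOf S with hR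
  have key : ∀ i, 2 ≤ i → i + 2 ≤ n → R ≠ twoStepAt S i → ¬ R ≤ twoStepAt S i := by
    intro i h2 hi hne hle
    refine hne (eq_of_le_of_card_ge hle ?_)
    have e1 := R.card_mul_index
    have e2 := (twoStepAt S i).card_mul_index
    rw [index_twoStepAt hx h2 hi, ← e1, hidx] at e2
    exact (Nat.eq_of_mul_eq_mul_right hp.pos e2).le
  by_cases ha : R = twoStepAt S 2
  · exact Or.inl ha
  by_cases hb : R = twoStepAt S (n - 2)
  · exact Or.inr (Or.inl hb)
  obtain ⟨a, haR, ha'⟩ := SetLike.not_le_iff_exists.1 (key 2 le_rfl (by omega) ha)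
  obtain ⟨b, hbR, hb'⟩ := SetLike.not_le_iff_exists.1 (key (n - 2) (by omega) (by omega) hb)
  obtain ⟨e, heR, he2, hel⟩ : ∃ e, e ∈ R ∧ e ∉ twoStepAt S 2 ∧ e ∉ twoStepAt S (n - 2) := by
    by_cases h1 : a ∈ twoStepAt S (n - 2)
    · by_cases h2 : b ∈ twoStepAt S 2
      · exact ⟨a * b, mul_mem haR hbR, fun h => ha' ((Subgroup.mul_mem_cancel_right _ h2).1 h),
          fun h => hb' ((Subgroup.mul_mem_cancel_left _ h1).1 h)⟩
      · exact ⟨b, hbR, h2, hb'⟩
    · exact ⟨a, haR, ha', h1⟩
  have hg2 : gam S 2 ≤ R := by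
    haveI : R.Normal := hEn
    haveI : Finite (S ⧸ R) := Quotient.finite _
    haveI : IsCyclic (S ⧸ R) := isCyclic_of_prime_card (p := p) (by rw [← index_eq_card, hidx])
    rw [show gam S 2 = ⁅(⊤ : Subgroup S), ⊤⁆ from rfl, commutator_le]
    intro u _ v _
    rw [← QuotientGroup.eq_one_iff, ← QuotientGroup.mk'_apply, map_commutatorElement,
      commutatorElement_eq_one_iff_mul_comm]
    exact (IsCyclic.isMulCommutative.is_comm).comm _ _
  have hu : Uniform e p n := uniform_of_notMem hS hn (by omega) hcl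
    (fun h => he2 (gam_le_twoStepAt hS (by omega) h)) fun j h2 hj h => by
      rcases Nat.lt_or_ge (j + 2) n with hj' | hj'
      · exact he2 (twoStepAt_eq hx hp5 h2 hj' ▸ h)
      · exact hel (show n - 2 = j by omega ▸ h)
  -- the centralizer of `e` lies in `E`
  have hcR : centralizer ({e} : Set S) ≤ R := by
    have hlt : gam S (n - 1) < centralizer ({e} : Set S) ⊓ R := by
      refine lt_of_le_of_ne (le_inf (hu.inf_centralizer.ge.trans inf_le_left)
        ((gam_anti (show 2 ≤ n - 1 by omega)).trans hg2)) fun h => hu.notMem_gam ?_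
      exact gam_anti (show 2 ≤ n - 1 by omega) (h.ge ⟨mem_centralizer_singleton_iff.2 rfl, heR⟩)
    obtain ⟨r, hr⟩ := (hS.to_subgroup (centralizer ({e} : Set S) ⊓ R)).exists_card_eq
    have h1 : Nat.card (gam S (n - 1)) < Nat.card ↥(centralizer ({e} : Set S) ⊓ R) := by
      refine lt_of_le_of_ne (card_le_of_le hlt.le) fun h => hlt.ne (eq_of_le_of_card_ge hlt.le h.ge)
    rw [hu.card_gam (by omega) (by omega), hr, show n - (n - 1) = 1 by omega] at h1
    have h2 : 1 < r := (Nat.pow_lt_pow_iff_right hp.one_lt).1 h1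
    have h3 : centralizer ({e} : Set S) ⊓ R = centralizer ({e} : Set S) := by
      refine eq_of_le_of_card_ge inf_le_left ?_
      rw [hu.cent, hr]
      exact Nat.pow_le_pow_right hp.pos h2
    exact inf_eq_left.1 h3
  have hEc : Nat.card E = p ^ (n - 1) := by
    have e1 := R.card_mul_index
    rw [hidx, hn, show p ^ n = p ^ (n - 1) * p by rw [← pow_succ, show n - 1 + 1 = n by omega]] at e1
    rw [← Nat.card_congr (subgroupOfEquivOfLe hES).toEquiv]
    exact Nat.eq_of_mul_eq_mul_right hp.pos e1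
  have hue : Uniform (⟨e, mem_subgroupOf.1 heR⟩ : E) p (n - 1) := by
    refine ⟨hEc, ?_, by omega⟩
    rw [← hu.cent]
    refine Nat.card_congr
      { toFun := fun z => ⟨⟨(z : E), hES z.1.2⟩, mem_centralizer_singleton_iff.2 (Subtype.ext
          (congrArg (fun y : E => (y : Ω)) (mem_centralizer_singleton_iff.1 z.2)))⟩
        invFun := fun z => ⟨⟨(z : S), mem_subgroupOf.1 (hcR z.2)⟩, mem_centralizer_singleton_iff.2 (Subtype.ext
          (congrArg (fun y : S => (y : Ω)) (mem_centralizer_singleton_iff.1 z.2)))⟩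
        left_inv := fun z => rfl
        right_inv := fun z => rfl }
  obtain ⟨hcore, hdvd⟩ := CfsgLib.Fusion.EssentialCube.autGroup_data hS hE
  rcases Nat.lt_or_ge (n - 1) 4 with hn4 | hn4
  · obtain rfl : n = 4 := by omega
    haveI : Nontrivial E := Finite.one_lt_card_iff_nontrivial.1 (hEc ▸ Nat.one_lt_pow (by omega) hp.one_lt)
    have hcl' := hue.class_eq
    obtain ⟨a', b', hne⟩ : ∃ a' b' : E, a' * b' ≠ b' * a' := by
      by_contra hcom
      push Not at hcom
      have h1 : centralizer ({(⟨e, mem_subgroupOf.1 heR⟩ : E)} : Set E) = ⊤ :=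
        eq_top_iff.2 fun y _ => mem_centralizer_singleton_iff.2 (hcom _ _)
      have h2 := hue.cent
      rw [h1, card_top, hEc] at h2
      have := Nat.pow_right_injective hp.two_le h2
      omega
    rcases CfsgLib.Fusion.EssentialCube.classify (H := E) hEc hne _ hcore hdvd with ⟨-, hex, hexp⟩ | ⟨h2, -⟩
    · refine Or.inr (Or.inr ⟨rfl, hEc, hex, ?_⟩)
      rcases (Nat.dvd_prime hp).1 (Monoid.exponent_dvd_of_forall_pow_eq_one hexp) with h | h
      · exact absurd (Monoid.exp_eq_one_iff.1 h) (fun hsub => hne (@Subsingleton.elim _ hsub _ _))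
      · exact h
    · omega
  · exact (no_maximal_class hue hn4 _ hcore hdvd).elim

end CfsgLib.MaxClassEss
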