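import Cfsg.Agent.Lib.MaxClassEss.TwoStep

/-!
# A uniform element moving the layers of a group of maximal class
-/

set_option autoImplicit false
set_option linter.style.haveILetI false
set_option linter.unusedSectionVars false

open Subgroup
open scoped commutatorElement Classical

namespace CfsgLib.MaxClassEss

open CfsgLib.MaxClassShift (gam gam_normal gam_anti gam_one gam_comm)
open CfsgLib.MaxClassUniform (Uniform gam_le_twoStepAt)
open CfsgLib.PGroup.MaxClassRank (twoStepAt layer_gen pow_mem_two)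

universe u

variable {G : Type u} [Group G] [Finite G] {p n k : ℕ} [hpf : Fact p.Prime] {x : G}

/-- The iterated commutators with `x`. -/
def seq (x b : G) : ℕ → G
  | 0 => b
  | j + 1 => ⁅x, seq x b j⁆

theorem seq_zero {b : G} : seq x b 0 = b := rfl

theorem seq_succ {b : G} {j : ℕ} : seq x b (j + 1) = ⁅x, seq x b j⁆ := rfl

theorem seq_mem {b : G} (hk : 1 ≤ k) (hb : b ∈ gam G k) : ∀ j, seq x b j ∈ gam G (k + j)
  | 0 => hb
  | j + 1 => by
    have h1 := gam_comm (a := 1) (b := k + j) le_rfl (by omega) (mem_top x) (seq_mem hk hb j)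
    rwa [show 1 + (k + j) = k + (j + 1) by ring] at h1

variable (h : Uniform x p n)
include h

theorem seq_notMem {b : G} (hk : 2 ≤ k) (hb : b ∈ gam G k) (hb' : b ∉ gam G (k + 1)) :
    ∀ j, k + j < n → seq x b j ∉ gam G (k + j + 1)
  | 0, _ => hb'
  | j + 1, hj => fun hmem => by
    refine seq_notMem hk hb hb' j (by omega) (CfsgLib.MaxClassWeight.mem_succ_of_comm h
      (by omega) (by omega) (seq_mem (by omega) hb j) ?_)
    rw [← commutatorElement_inv]
    exact inv_mem (by rwa [show k + (j + 1) + 1 = k + j + 2 by ring] at hmem)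

/-- A subgroup containing the sequence from `j` on contains the term of the series. -/
theorem gam_le_of_seq {b : G} {m : ℕ} (hk : 2 ≤ k) (hm : k + m ≤ n) (hb : b ∈ gam G k)
    (hb' : b ∉ gam G (k + 1)) (C : Subgroup G) (hq : gam G (k + m) ≤ C) {j : ℕ} (hjm : j ≤ m)
    (hw : ∀ l, j ≤ l → l < m → seq x b l ∈ C) : gam G (k + j) ≤ C := by
  induction hjm using Nat.decreasingInduction with
  | self => exact hq
  | of_succ l hl ih =>
    intro v hv
    obtain ⟨z, hz⟩ := layer_gen h.isPGroup h.card h.three h.class_eq (by omega)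
      (show k + l < n by omega) (seq_mem (by omega) hb l) (seq_notMem h hk hb hb' l (by omega)) hv
    rw [show v = seq x b l ^ z * ((seq x b l ^ z)⁻¹ * v) by group]
    exact mul_mem (zpow_mem (hw l le_rfl hl) z) (ih (fun i hi hi' => hw i (by omega) hi') hz)

/-- A normal subgroup inside `γ₂` is a term of the series. -/
theorem normal_eq_gam (hk : 2 ≤ k) (hkn : k ≤ n) {N : Subgroup G} [N.Normal] (hle : N ≤ gam G k) :
    ∃ q, k ≤ q ∧ q ≤ n ∧ N = gam G q := by
  obtain ⟨q, hqn, hq⟩ := (Nat.dvd_prime_pow hpf.out).1 (h.card ▸ N.index_dvd_card)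
  have hkq : k ≤ q := by
    have h1 := index_antitone hle
    rw [hq, h.index_gam hk hkn] at h1
    exact (Nat.pow_le_pow_iff_right hpf.out.one_lt).1 h1
  refine ⟨q, hkq, hqn, (eq_of_le_of_card_ge
    (CfsgLib.PGroup.lowerCentralSeries_le_of_index h.isPGroup (by omega) hq) ?_).symm⟩
  have e1 := N.card_mul_index
  have e2 := (gam G q).card_mul_index
  rw [h.index_gam (by omega) hqn] at e2
  rw [hq, ← e2] at e1
  exact (Nat.eq_of_mul_eq_mul_right (pow_pos hpf.out.pos q) e1).le

theorem twoStepAt_normal {i : ℕ} (hi : 1 ≤ i) : (twoStepAt G i).Normal := ⟨fun a ha g => by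
  rw [show g * a * g⁻¹ = ⁅g, a⁆ * a by group]
  exact mul_mem (gam_le_twoStepAt h.isPGroup hi (gam_comm (a := 1) (b := 1) le_rfl le_rfl (mem_top g) (mem_top a))) ha⟩

/-- A two step centralizer is complemented by the uniform element. -/
theorem exists_zpow_mem {i : ℕ} (h2 : 2 ≤ i) (hi : i + 2 ≤ n) (g : G) :
    ∃ a : ℤ, (x ^ a)⁻¹ * g ∈ twoStepAt G i := by
  haveI := twoStepAt_normal h (show 1 ≤ i by omega)
  set T := twoStepAt G i with hT
  have hc : Nat.card (G ⧸ T) = p := by rw [← index_eq_card, index_twoStepAt h h2 hi]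
  haveI : Finite (G ⧸ T) := Quotient.finite _
  have hx : (x : G ⧸ T) ≠ 1 := fun hx => uniform_notMem h h2 hi ((QuotientGroup.eq_one_iff _).1 hx)
  obtain ⟨a, ha⟩ := mem_zpowers_iff.1 ((zpowers_eq_top_of_prime_card hc hx).ge (mem_top (g : G ⧸ T)))
  refine ⟨a, ?_⟩
  rw [← QuotientGroup.eq_one_iff, QuotientGroup.mk_mul, QuotientGroup.mk_inv, QuotientGroup.mk_zpow, ha,
    inv_mul_cancel]

/-- An element of a two step centralizer commuting with `x` modulo `γ₃` lies in `γ₂`. -/
theorem mem_two_of_comm (h4 : 4 ≤ n) {i : ℕ} (h2 : 2 ≤ i) (hi : i + 2 ≤ n) {g : G}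
    (hg : g ∈ twoStepAt G i) (hc : ⁅g, x⁆ ∈ gam G 3) : g ∈ gam G 2 := by
  obtain ⟨e, -, -, hex⟩ := exists_frame h h4
  haveI := gam_normal (G := G) 3
  set q := QuotientGroup.mk' (gam G 3) with hq
  have hmem : ∀ y, y ∈ (centralizer {q x}).comap q ↔ ⁅y, x⁆ ∈ gam G 3 := fun y => by
    rw [mem_comap, mem_centralizer_singleton_iff, ← commutatorElement_eq_one_iff_mul_comm,
      ← map_commutatorElement]
    exact QuotientGroup.eq_one_iff _
  set M := (centralizer {q x}).comap q with hM
  have hle : gam G 2 ≤ M ⊓ twoStepAt G i := le_inf (fun c hc' => (hmem c).2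
    (gam_comm (a := 2) (b := 1) (by omega) le_rfl hc' (mem_top x))) (gam_le_twoStepAt h.isPGroup (by omega))
  have hne : M ≠ ⊤ := fun ht => hex ((hmem e).1 (ht.ge (mem_top e)))
  have hlt : M ⊓ twoStepAt G i < M := lt_of_le_of_ne inf_le_left fun h' =>
    uniform_notMem h h2 hi (inf_eq_left.1 h' ((hmem x).2 (by rw [commutatorElement_self]; exact one_mem _)))
  have h1 : 1 < M.index := by
    rcases Nat.lt_or_ge 1 M.index with h' | h'
    · exact h'
    · exact absurd (index_eq_one.1 (le_antisymm h' (Nat.pos_of_ne_zero index_ne_zero_of_finite))) hne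
  have hlt2 := index_strictAnti hlt
  obtain ⟨r, -, hr⟩ := (Nat.dvd_prime_pow hpf.out).1 (h.card ▸ (M ⊓ twoStepAt G i).index_dvd_card)
  obtain ⟨s, -, hs⟩ := (Nat.dvd_prime_pow hpf.out).1 (h.card ▸ M.index_dvd_card)
  have hr2 := index_antitone hle
  rw [h.index_gam le_rfl (by omega), hr] at hr2
  rw [hr, hs] at hlt2
  rw [hs] at h1
  have hs1 : 1 ≤ s := Nat.pos_of_ne_zero fun h' => by rw [h', pow_zero] at h1; omega
  have hrs := (Nat.pow_lt_pow_iff_right hpf.out.one_lt).1 hlt2
  have hr' := (Nat.pow_le_pow_iff_right hpf.out.one_lt).1 hr2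
  obtain rfl : r = 2 := by omega
  refine (eq_of_le_of_card_ge hle (le_of_eq ?_)).ge (mem_inf.2 ⟨(hmem g).2 hc, hg⟩)
  have e1 := (M ⊓ twoStepAt G i).card_mul_index
  have e2 := (gam G 2).card_mul_index
  rw [h.index_gam le_rfl (by omega)] at e2
  rw [hr, ← e2] at e1
  exact Nat.eq_of_mul_eq_mul_right (pow_pos hpf.out.pos 2) e1

/-- An element of `T_k` with `[g, x] ∈ γ_k` lies in `γ_{k-1}`. -/
theorem mem_pred_of_comm (hk : 3 ≤ k) (hkn : k + 2 ≤ n) {g : G} (hg : g ∈ twoStepAt G k)
    (hc : ⁅g, x⁆ ∈ gam G k) : g ∈ gam G (k - 1) := by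
  have key : ∀ i, 2 ≤ i → i + 1 ≤ k → g ∈ gam G i := by
    intro i hi
    induction i, hi using Nat.le_induction with
    | base => exact fun _ => mem_two_of_comm h (by omega) (by omega) hkn hg (gam_anti hk hc)
    | succ i hi ih =>
      intro hik
      exact CfsgLib.MaxClassWeight.mem_succ_of_comm h hi (by omega) (ih (by omega))
        (gam_anti (show i + 2 ≤ k by omega) hc)
  exact key (k - 1) (by omega) (by omega)

end CfsgLib.MaxClassEss
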