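import Cfsg.Agent.Lib.MaxClassEss.Coord

/-!
# No automorphism groups on sections of depth at least two

A group of automorphisms of `γ_k`, `2 ≤ k`, with the conjugations as a Sylow `p`-subgroup and without
other normal `p`-subgroups on the section exists only in the case of an elementary `γ_k` of order `p³`.
-/

set_option autoImplicit false
set_option linter.style.haveILetI false
set_option linter.unusedSectionVars false

open Subgroup
open scoped commutatorElement Classical

namespace CfsgLib.MaxClassEss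

open CfsgLib.MaxClassShift (gam gam_normal gam_anti gam_one gam_comm)
open CfsgLib.MaxClassUniform (Uniform gam_le_twoStepAt)
open CfsgLib.PGroup.MaxClassRank (twoStepAt)
open CfsgLib.RegUnip

universe u v

variable {G : Type u} [Group G] [Finite G] {p n k m : ℕ} [hpf : Fact p.Prime] {x : G}
  {H : Type v} [Group H] {ι : H →* G} {b : G}

/-- A `p`-subgroup over a Sylow one is equal to it. -/
theorem le_of_sylow {A : Type*} [Group A] [Finite A] {X Q U : Subgroup A} (hQU : Q ≤ X ⊓ U)
    (hU : IsPGroup p U) (hs : ¬ p ∣ Q.relIndex X) : X ⊓ U ≤ Q := by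
  obtain ⟨t, ht⟩ := (hU.to_le inf_le_right : IsPGroup p ↥(X ⊓ U)).exists_card_eq
  obtain ⟨e, -, he⟩ := (Nat.dvd_prime_pow hpf.out).1 (ht ▸ relIndex_dvd_card Q (X ⊓ U))
  rcases Nat.eq_zero_or_pos e with he0 | he0
  · exact relIndex_eq_one.1 (by rw [he, he0, pow_zero])
  · refine absurd (dvd_trans ?_ (Dvd.intro _ (relIndex_mul_relIndex Q (X ⊓ U) X hQU inf_le_left))) hs
    rw [he]
    exact dvd_pow_self p (by omega)

/-- The hypotheses on a group of automorphisms of a section. -/
structure Auto (x : G) (p n k m : ℕ) (ι : H →* G) (A : Subgroup (MulAut H)) (c : G →* A) : Prop where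
  bottom : ∀ σ ∈ A, ∀ a, ι a ∈ gam G (k + m) → ι (σ a) ∈ gam G (k + m)
  conj : ∀ g a, ι ((c g : MulAut H) a) = g * ι a * g⁻¹
  sylow : ¬ p ∣ c.range.index
  core : ∀ R : Subgroup A, R.Normal → IsPGroup p R → ∀ σ ∈ R, ∀ a,
    ι ((σ : MulAut H) a * a⁻¹) ∈ gam G (k + m)
  stab : ∀ R : Subgroup A, (∀ σ ∈ R, ∀ a, ι ((σ : MulAut H) a * a⁻¹) ∈ gam G (k + m)) → IsPGroup p R
  faith : ∀ g, (∀ a, ι ((c g : MulAut H) a * a⁻¹) ∈ gam G (k + m)) → g ∈ gam G k

theorem no_section (hp5 : 5 ≤ p) (S : Sect x p n k m ι b) {A : Subgroup (MulAut H)} {c : G →* A}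
    (D : Auto x p n k m ι A c) (hm1 : 1 ≤ m) (hmp : m ≤ p - 1) (hkn : k + 3 ≤ n) :
    m = 3 ∧ k + m = n := by
  have hk := S.two
  have hle := S.le
  have h := S.uniform
  obtain ⟨w, hw⟩ := S.exists_lift
  obtain ⟨φ, C⟩ := S.exists_coord hw
  haveI : Finite H := Finite.of_injective ι S.inj
  haveI : Finite (MulAut H) := Finite.of_injective (fun a : MulAut H => (a : H → H)) DFunLike.coe_injective
  set f := S.action hw C A D.bottom with hf
  have hfv : ∀ σ : A, ((f σ : GLw p m) : M2 p m) = mat φ w (σ : MulAut H) := fun σ => rfl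
  -- trivial action
  have htriv : ∀ σ : A, f σ = 1 ↔ ∀ a, ι ((σ : MulAut H) a * a⁻¹) ∈ gam G (k + m) := by
    intro σ
    constructor
    · intro h1 a
      rw [← C.zero, C.add, C.inv, S.apply_eq hw C (D.bottom σ σ.2), ← hfv, h1, Units.val_one,
        Matrix.one_mulVec, add_neg_cancel]
    · intro h1
      refine Units.ext (Matrix.ext fun i j => ?_)
      have h2 := (C.zero _).2 (h1 (w j))
      rw [C.add, C.inv, C.base j, ← sub_eq_add_neg, sub_eq_zero] at h2
      rw [hfv, Units.val_one]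
      show φ ((σ : MulAut H) (w j)) i = _
      rw [h2, Pi.single_apply, Matrix.one_apply]
  set ρ := f.comp c with hρ
  have hρv : ∀ g, ((ρ g : GLw p m) : M2 p m) = mat φ w (c g : MulAut H) := fun g => rfl
  set X := f.range with hX
  set Q := ρ.range with hQ
  have hQX : Q ≤ X := by rintro _ ⟨g, rfl⟩; exact ⟨c g, rfl⟩
  have huni : Q ≤ Uni p m := by
    rintro _ ⟨g, rfl⟩
    exact mem_Uni.2 (by rw [hρv]; exact S.mat_deg hw C (D.conj g))
  have hker : ρ.ker = gam G k := by
    ext g
    rw [MonoidHom.mem_ker, hρ, MonoidHom.comp_apply, htriv]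
    refine ⟨D.faith g, fun hg a => ?_⟩
    obtain ⟨d, rfl⟩ := S.range.ge hg
    rw [map_mul, map_inv, D.conj, ← map_inv, ← map_inv, ← map_mul, ← map_mul, ← map_mul,
      show d * a * d⁻¹ * a⁻¹ = ⁅d, a⁆ by rw [commutatorElement_def]]
    exact S.comm d a
  have hcardQ : Nat.card Q = p ^ k := by
    rw [hQ, ← index_ker, hker, h.index_gam hk (by omega)]
  have hsyl : ¬ p ∣ Q.relIndex X := by
    rw [hQ, hX, hρ, MonoidHom.range_comp, MonoidHom.range_eq_map f, relIndex_map_map]
    intro h1
    refine D.sylow (h1.trans ?_)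
    rw [top_sup_eq, relIndex_top_right]
    exact index_dvd_of_le le_sup_left
  have hcore : ∀ R : Subgroup X, R.Normal → IsPGroup p R → R = ⊥ := by
    intro R hRn hRp
    have h1 : (R.comap f.rangeRestrict).Normal := hRn.comap _
    have h2 : IsPGroup p (R.comap f.rangeRestrict) := by
      refine hRp.comap_of_ker_isPGroup _ (D.stab _ fun σ hσ => (htriv σ).1 ?_)
      exact congrArg Subtype.val hσ
    refine (Subgroup.eq_bot_iff_forall _).2 fun r hr => ?_
    obtain ⟨σ, rfl⟩ := f.rangeRestrict_surjective r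
    exact Subtype.ext ((htriv σ).2 (D.core _ h1 h2 σ hr))
  rcases Nat.lt_or_ge m 2 with hm | hm
  · exfalso
    have : Q = ⊥ := (Subgroup.eq_bot_iff_forall _).2 fun q hq =>
      eq_one_of_Dg (mem_Dg_one.2 (huni hq)) (show m ≤ 1 by omega)
    rw [this, card_bot] at hcardQ
    exact absurd hcardQ.symm (Nat.one_lt_pow (by omega) hpf.out.one_lt).ne'
  -- the shift and the first subdiagonal
  have hxv : ((ρ x : GLw p m) : M2 p m) = 1 + shiftN (ZMod p) m := by
    rw [hρv]; exact S.mat_shift hw C (D.conj x)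
  have hsub : ∀ {j}, j + 1 < m → ∀ g, ent (ρ g : M2 p m) (j + 1) j = 0 ↔ g ∈ twoStepAt G (k + j) :=
    fun {j} hj g => by rw [hρv]; exact S.subdiag_iff hw C (D.conj g) hj
  have hshift : ∀ g, Commute (ρ g) (ρ x) → Commute (ρ g : M2 p m) (shiftN (ZMod p) m) := by
    intro g hg
    have h1 : Commute (ρ g : M2 p m) (1 + shiftN (ZMod p) m) := by
      rw [← hxv]; exact hg.map (Units.coeHom _)
    simpa using h1.sub_right (Commute.one_right _)
  have hcommk : ∀ g y, ⁅g, y⁆ ∈ gam G k → Commute (ρ g) (ρ y) := fun g y hgy => by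
    rw [← hker, MonoidHom.mem_ker, map_commutatorElement, commutatorElement_eq_one_iff_commute] at hgy
    exact hgy
  have hconst_of : ∀ j, j + 1 < m → twoStepAt G (k + j) = twoStepAt G k → ∀ g,
      ent (ρ g : M2 p m) (j + 1) j = ent (ρ g : M2 p m) 1 0 := by
    intro j hj hT g
    let E : Subgroup G := subgroupOfFinite {g | ent (ρ g : M2 p m) (j + 1) j = ent (ρ g : M2 p m) 1 0}
      (by simp only [Set.mem_ofPred_eq, map_one, Units.val_one]
          rw [ent_one hj, if_neg (by omega), ent_one hm, if_neg one_ne_zero])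
      fun {a c'} ha hc => by
        simp only [Set.mem_ofPred_eq] at ha hc ⊢
        rw [map_mul, ent_mul_sub (huni ⟨a, rfl⟩) (huni ⟨c', rfl⟩),
          ent_mul_sub (huni ⟨a, rfl⟩) (huni ⟨c', rfl⟩) 0, ha, hc]
    obtain ⟨a, ha⟩ := exists_zpow_mem h hk (show k + 2 ≤ n by omega) g
    have hx' : x ∈ E := show ent (ρ x : M2 p m) (j + 1) j = ent (ρ x : M2 p m) 1 0 by
      rw [ent_one_shift hxv j hj, ent_one_shift hxv 0 hm]
    have ht : (x ^ a)⁻¹ * g ∈ E := show ent (ρ _ : M2 p m) (j + 1) j = ent (ρ _ : M2 p m) 1 0 by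
      rw [(hsub hj _).2 (by rwa [hT]), (hsub (j := 0) hm _).2 ha]
    have h2 := E.mul_mem (E.zpow_mem hx' a) ht
    rw [mul_inv_cancel_left] at h2
    exact h2
  -- the case of a constant subdiagonal
  have hnot : ∃ j, j + 1 < m ∧ twoStepAt G (k + j) ≠ twoStepAt G k := by
    by_contra hcon
    push Not at hcon
    have hR : Reg X Q := by
      refine ⟨hQX, ?_, hsyl, huni, ?_, ⟨ρ x, ⟨x, rfl⟩, hxv⟩, ?_⟩
      · exact (h.isPGroup.to_subgroup ⊤).map ρ |>.to_le (by rw [hQ, MonoidHom.range_eq_map])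
      · rintro _ ⟨g, rfl⟩ i hi
        exact hconst_of i hi (hcon i hi) g
      · rintro _ ⟨g, rfl⟩ _ ⟨d, rfl⟩ hg0 hd0 hgc hdc hg1
        -- the subgroup between `γ_k` and the candidates
        have hcand : ∀ y, ent (ρ y : M2 p m) 1 0 = 0 → Commute (ρ y : M2 p m) (shiftN (ZMod p) m) →
            y ∈ twoStepAt G k ∧ ⁅y, x⁆ ∈ gam G k := by
          intro y h0 hc
          refine ⟨(hsub (j := 0) hm y).1 h0, ?_⟩
          rw [← hker, MonoidHom.mem_ker, map_commutatorElement, commutatorElement_eq_one_iff_commute]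
          refine Units.ext ?_
          rw [Units.val_mul, Units.val_mul, hxv]
          exact ((Commute.one_right _).add_right hc).eq
        obtain ⟨M, hMk, hMidx, hM⟩ : ∃ M : Subgroup G, gam G k ≤ M ∧ (gam G k).relIndex M = p ∧
            ∀ y, y ∈ twoStepAt G k → ⁅y, x⁆ ∈ gam G k → y ∈ M := by
          rcases Nat.lt_or_ge k 3 with hk3 | hk3
          · obtain rfl : k = 2 := by omega
            refine ⟨twoStepAt G 2, gam_le_twoStepAt h.isPGroup (by omega), ?_, fun y hy _ => hy⟩
            have e := relIndex_mul_index (gam_le_twoStepAt (G := G) (p := p) h.isPGroup (show 1 ≤ 2 by omega))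
            rw [index_twoStepAt h le_rfl (by omega), h.index_gam le_rfl (by omega), pow_two] at e
            exact Nat.eq_of_mul_eq_mul_right hpf.out.pos e
          · refine ⟨gam G (k - 1), gam_anti (by omega), ?_, fun y hy hc => mem_pred_of_comm h hk3 (by omega) hy hc⟩
            have e := relIndex_mul_index (gam_anti (G := G) (show k - 1 ≤ k by omega))
            rw [h.index_gam (by omega) (show k - 1 ≤ n by omega), h.index_gam hk (by omega)] at e
            refine Nat.eq_of_mul_eq_mul_right (pow_pos hpf.out.pos (k - 1)) (e.trans ?_)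
            rw [← pow_succ', show k - 1 + 1 = k by omega]
        have hgM := hM g (hcand g hg0 hgc).1 (hcand g hg0 hgc).2
        have hdM := hM d (hcand d hd0 hdc).1 (hcand d hd0 hdc).2
        have hgk : g ∉ gam G k := fun hg => hg1 (MonoidHom.mem_ker.1 (hker.ge hg))
        have e := relIndex_mul_relIndex (gam G k) (gam G k ⊔ zpowers g) M le_sup_left
          (sup_le hMk (zpowers_le.2 hgM))
        rw [hMidx] at e
        have hd' : d ∈ gam G k ⊔ zpowers g := by
          rcases (Nat.dvd_prime hpf.out).1 (Dvd.intro _ e) with h1 | h1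
          · exact absurd (relIndex_eq_one.1 h1 (mem_sup_right (mem_zpowers g))) hgk
          · rw [h1] at e
            exact relIndex_eq_one.1 (Nat.eq_of_mul_eq_mul_left hpf.out.pos (e.trans (mul_one p).symm)) hdM
        have h2 := mem_map_of_mem ρ hd'
        rwa [Subgroup.map_sup, (Subgroup.map_eq_bot_iff _).2 hker.ge, bot_sup_eq, MonoidHom.map_zpowers] at h2
    have h1 := hR.card_of_core hp5 hm hmp hcore
    rw [hcardQ] at h1
    have := Nat.pow_right_injective hpf.out.two_le (h1.trans (pow_one p).symm)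
    omega
  obtain ⟨j, hj, hne⟩ := hnot
  have hTk : ∀ i, k + i + 3 ≤ n → twoStepAt G (k + i) = twoStepAt G k := fun i hi => by
    rw [twoStepAt_eq h hp5 (by omega) hi, twoStepAt_eq h hp5 hk (by omega)]
  have hj2 : n ≤ k + j + 2 := by
    by_contra hlt
    exact hne (hTk j (by omega))
  have hqn : k + m = n := by omega
  obtain rfl : j = m - 2 := by omega
  rcases Nat.lt_or_ge m 3 with hm3 | hm3
  · exact absurd (by rw [show m - 2 = 0 by omega, Nat.add_zero]) hne
  -- `k ≥ 3`
  have hk3 : 3 ≤ k := by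
    by_contra hlt
    obtain rfl : k = 2 := by omega
    refine hne (twoStepAt_eq_of_le h le_rfl (by omega) (by omega) (by omega) fun t ht => ?_).symm
    have hc := hshift t (hcommk t x (by
      have := gam_comm (a := 1) (b := 1) le_rfl le_rfl (mem_top t) (mem_top x); exact this))
    refine (hsub hj t).1 ?_
    rw [top_const_of_commute hc 1 (m - 2) (by omega)]
    exact (hsub (j := 0) hm t).2 ht
  obtain ⟨g₀, hg₀, hg₀'⟩ := exists_layer h (k := k - 1) (by omega) (by omega)
  rw [show k - 1 + 1 = k by omega] at hg₀'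
  have hall : ∀ g, Commute (ρ g₀) (ρ g) := fun g => hcommk g₀ g (by
    have := gam_comm (a := k - 1) (b := 1) (by omega) le_rfl hg₀ (mem_top g)
    rwa [show k - 1 + 1 = k by omega] at this)
  set s := ρ g₀ with hs
  have hs1 : s ≠ 1 := fun e => hg₀' (hker.le e)
  have hcs : Commute ((s : M2 p m) - 1) (shiftN (ZMod p) m) :=
    (hshift g₀ (hall x)).sub_left (Commute.one_left _)
  obtain ⟨d, hd1, hdm, hdeg, i₀, hi₀, hne₀⟩ := exists_top (h₀ := 1)
    (show (s : M2 p m) - 1 ≠ 0 from fun e => hs1 (Units.ext (sub_eq_zero.1 e)))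
    (by simpa using mem_Uni.1 (huni ⟨g₀, rfl⟩))
  rw [top_const_of_commute hcs d i₀ hi₀] at hne₀
  have hdtop : d + 1 = m := by
    by_contra hdne
    obtain ⟨e, heT, hen⟩ : ∃ e, e ∈ twoStepAt G k ∧ e ∉ twoStepAt G (k + (m - 2)) := by
      refine Set.not_subset.1 fun hsub' => hne (twoStepAt_eq_of_le h hk (by omega) (by omega) (by omega) hsub').symm
    set i := m - 2 - d with hi
    obtain ⟨-, h1⟩ := comm_top (mem_Dg_one.2 (huni ⟨e, rfl⟩)) (mem_Dg.2 hdeg) le_rfl hd1
    have h2 := h1 i (by omega)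
    rw [show ρ e * s * (ρ e)⁻¹ * s⁻¹ = 1 by rw [(hall e).symm.eq]; group, Units.val_one,
      ent_one (by omega), if_neg (by omega), (hsub (show i + 1 < m by omega) e).2
      (by rw [hTk i (by omega)]; exact heT), mul_zero, sub_zero] at h2
    have h3 : ent (s : M2 p m) (i + d) i = ent ((s : M2 p m) - 1) d 0 := by
      rw [← top_const_of_commute hcs d i (by omega), ent_sub, ent_one (by omega), if_neg (by omega), sub_zero]
    rcases mul_eq_zero.1 h2.symm with h4 | h4
    · refine hen ((hsub hj e).1 ?_)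
      rwa [show m - 2 + 1 = i + (1 + d) by omega, show m - 2 = i + d by omega]
    · exact hne₀ (h3.symm.trans h4)
  rcases Nat.lt_or_ge m 4 with hm4 | hm4
  · exact ⟨by omega, hqn⟩
  exfalso
  refine no_transvection hp5 hm4 hmp hcore (x := ρ x) (s := s) (hQX ⟨x, rfl⟩) hxv (hQX ⟨g₀, rfl⟩) hs1
    (by rw [show m - 1 = d by omega]; exact mem_Dg.2 hdeg) fun q hqX hqU i hi => ?_
  obtain ⟨g, rfl⟩ := le_of_sylow (le_inf hQX huni) isPGroup_uni hsyl ⟨hqX, hqU⟩
  exact hconst_of i (by omega) (hTk i (by omega)) g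

end CfsgLib.MaxClassEss
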