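import Cfsg.Agent.Lib.PGroup.MaxClassUniform
import Cfsg.Agent.Lib.PGroup.MaxClassWeight
import Cfsg.Agent.Lib.PGroup.AssociatedLieRing
import Mathlib.Data.ZMod.Basic
import Mathlib.Tactic.Module

/-!
# The two step centralizers of a `p`-group of maximal class

All but the last one coincide (Blackburn), by the associated Lie ring.
-/

set_option autoImplicit false
set_option linter.style.haveILetI false

open Subgroup
open scoped commutatorElement Classical

namespace CfsgLib.MaxClassEss

open CfsgLib.MaxClassShift (gam gam_normal gam_anti gam_one gam_comm)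
open CfsgLib.MaxClassUniform (Uniform gam_le_twoStepAt exists_uniform)
open CfsgLib.PGroup.MaxClassRank (twoStepAt layer_gen twoStepAt_ne_top)
open CfsgLib.GrLie (γ el el_mul el_eq_zero_iff el_eq_zero_of_mem el_one el_inv lie_el GrRing)

universe u

variable {G : Type u} [Group G] [Finite G] {p n : ℕ} [hpf : Fact p.Prime] {x : G}

theorem mem_twoStepAt {i : ℕ} {g : G} :
    g ∈ twoStepAt G i ↔ ∀ v ∈ gam G i, ⁅g, v⁆ ∈ gam G (i + 2) := Iff.rfl

variable (h : Uniform x p n)
include h

theorem exists_layer {k : ℕ} (h2 : 2 ≤ k) (hk : k < n) :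
    ∃ b, b ∈ gam G k ∧ b ∉ gam G (k + 1) := by
  by_contra hcon
  push Not at hcon
  have h1 := Subgroup.card_le_of_le (show gam G k ≤ gam G (k + 1) from hcon)
  rw [h.card_gam h2 hk.le, h.card_gam (by omega) (show k + 1 ≤ n by omega)] at h1
  have := (Nat.pow_le_pow_iff_right hpf.out.one_lt).1 h1
  omega

theorem uniform_notMem {i : ℕ} (h2 : 2 ≤ i) (hi : i + 2 ≤ n) : x ∉ twoStepAt G i := by
  intro hx
  obtain ⟨b, hb, hb'⟩ := exists_layer h h2 (show i < n by omega)
  refine hb' (CfsgLib.MaxClassWeight.mem_succ_of_comm h h2 hi hb ?_)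
  rw [← commutatorElement_inv]
  exact inv_mem (hx b hb)

theorem mem_twoStepAt_of_gen {i : ℕ} (h2 : 2 ≤ i) (hi : i < n) {v : G} (hv : v ∈ gam G i)
    (hv' : v ∉ gam G (i + 1)) {g : G} (hg : ⁅g, v⁆ ∈ gam G (i + 2)) : g ∈ twoStepAt G i := by
  intro w hw
  haveI := gam_normal (G := G) (i + 2)
  obtain ⟨j, hj⟩ := layer_gen h.isPGroup h.card h.three h.class_eq h2 hi hv hv' hw
  have hz : ⁅g, (v ^ j)⁻¹ * w⁆ ∈ gam G (i + 2) := by
    have h1 := gam_comm (a := 1) (b := i + 1) le_rfl (by omega) (mem_top g) hj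
    rwa [show 1 + (i + 1) = i + 2 by ring] at h1
  set q := QuotientGroup.mk' (gam G (i + 2)) with hq
  have hc : ∀ {y : G}, ⁅g, y⁆ ∈ gam G (i + 2) → Commute (q g) (q y) := fun {y} hy => by
    refine commutatorElement_eq_one_iff_commute.1 ?_
    rw [← map_commutatorElement, hq, QuotientGroup.mk'_apply, QuotientGroup.eq_one_iff]
    exact hy
  rw [← QuotientGroup.eq_one_iff, ← QuotientGroup.mk'_apply, ← hq, map_commutatorElement,
    commutatorElement_eq_one_iff_commute, show w = v ^ j * ((v ^ j)⁻¹ * w) by group, map_mul, map_zpow]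
  exact ((hc hg).zpow_right j).mul_right (hc hz)

theorem index_twoStepAt {i : ℕ} (h2 : 2 ≤ i) (hi : i + 2 ≤ n) : (twoStepAt G i).index = p := by
  haveI := gam_normal (G := G) (i + 2)
  obtain ⟨v, hv, hv'⟩ := exists_layer h h2 (show i < n by omega)
  set T := twoStepAt G i with hT
  set q := QuotientGroup.mk' (gam G (i + 2)) with hq
  let φ : G → (gam G (i + 1)).map q := fun g =>
    ⟨q ⁅g, v⁆, mem_map_of_mem q (by
      have h1 := gam_comm (a := 1) (b := i) le_rfl (by omega) (mem_top g) hv
      rwa [show 1 + i = i + 1 by ring] at h1)⟩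
  have hcen : ∀ g, ∀ y ∈ (gam G (i + 1)).map q, Commute (q g) y := by
    rintro g _ ⟨y, hy, rfl⟩
    refine commutatorElement_eq_one_iff_commute.1 ?_
    rw [← map_commutatorElement, hq, QuotientGroup.mk'_apply, QuotientGroup.eq_one_iff]
    have h1 := gam_comm (a := 1) (b := i + 1) le_rfl (by omega) (mem_top g) hy
    rwa [show 1 + (i + 1) = i + 2 by ring] at h1
  let Φ : G →* (gam G (i + 1)).map q := MonoidHom.mk' φ fun a b => Subtype.ext <| by
    show q ⁅a * b, v⁆ = q ⁅a, v⁆ * q ⁅b, v⁆
    rw [show ⁅a * b, v⁆ = a * ⁅b, v⁆ * a⁻¹ * ⁅a, v⁆ by simp only [commutatorElement_def]; group,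
      map_mul, map_mul, map_mul, (hcen a _ (φ b).2).eq, map_inv, mul_inv_cancel_right,
      (hcen ⁅a, v⁆ _ (φ b).2).eq]
  have hker : Φ.ker ≤ T := by
    intro g hg
    refine mem_twoStepAt_of_gen h h2 (by omega) hv hv' ?_
    have h1 : q ⁅g, v⁆ = 1 := congrArg Subtype.val (hg : Φ g = 1)
    rwa [hq, QuotientGroup.mk'_apply, QuotientGroup.eq_one_iff] at h1
  have h1 : Φ.ker.index ∣ p := by
    rw [index_ker]
    refine (card_subgroup_dvd_card _).trans (dvd_of_eq ?_)
    rw [← relIndex_ker, hq, QuotientGroup.ker_mk', CfsgLib.MaxClassShift.gam,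
      CfsgLib.MaxClassShift.gam]
    have e : (gam G (i + 2)).relIndex (gam G (i + 1)) * (gam G (i + 1)).index = (gam G (i + 2)).index :=
      relIndex_mul_index (gam_anti (by omega))
    rw [h.index_gam (by omega) (show i + 1 ≤ n by omega), h.index_gam (by omega) hi] at e
    refine Nat.eq_of_mul_eq_mul_right (pow_pos hpf.out.pos (i + 1)) (e.trans ?_)
    rw [← pow_succ']
  have h3 := (index_dvd_of_le hker).trans h1
  rcases (Nat.dvd_prime hpf.out).1 h3 with h4 | h4
  · exact absurd (index_eq_one.1 h4) (twoStepAt_ne_top h.isPGroup h.card h.three h.class_eq (by omega) hi)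
  · exact h4

theorem twoStepAt_eq_of_le {i j : ℕ} (h2i : 2 ≤ i) (hi : i + 2 ≤ n) (h2j : 2 ≤ j) (hj : j + 2 ≤ n)
    (hle : twoStepAt G i ≤ twoStepAt G j) : twoStepAt G i = twoStepAt G j := by
  refine eq_of_le_of_card_ge hle ?_
  have e1 := (twoStepAt G i).card_mul_index
  have e2 := (twoStepAt G j).card_mul_index
  rw [index_twoStepAt h h2i hi] at e1
  rw [index_twoStepAt h h2j hj, ← e1] at e2
  exact (Nat.eq_of_mul_eq_mul_right hpf.out.pos e2).le

/-- An element of the first two step centralizer outside the commutator subgroup. -/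
theorem exists_frame (h4 : 4 ≤ n) : ∃ e, e ∈ twoStepAt G 2 ∧ e ∉ gam G 2 ∧ ⁅e, x⁆ ∉ gam G 3 := by
  have hxT : x ∉ twoStepAt G 2 := uniform_notMem h le_rfl (by omega)
  have hle : gam G 2 ≤ twoStepAt G 2 := gam_le_twoStepAt h.isPGroup (by omega)
  obtain ⟨e, he, he2⟩ : ∃ e, e ∈ twoStepAt G 2 ∧ e ∉ gam G 2 := by
    by_contra hcon
    push Not at hcon
    have h1 := index_antitone (H := twoStepAt G 2) (K := gam G 2) hcon
    rw [index_twoStepAt h le_rfl (by omega), h.index_gam le_rfl (by omega)] at h1
    have := hpf.out.two_le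
    nlinarith
  refine ⟨e, he, he2, fun hex => ?_⟩
  haveI := gam_normal (G := G) 3
  set q := QuotientGroup.mk' (gam G 3) with hq
  have hcm : ∀ {a b : G}, ⁅a, b⁆ ∈ gam G 3 → Commute (q a) (q b) := fun {a b} hab => by
    refine commutatorElement_eq_one_iff_commute.1 ?_
    rw [← map_commutatorElement, hq, QuotientGroup.mk'_apply, QuotientGroup.eq_one_iff]
    exact hab
  have h2cen : ∀ c ∈ gam G 2, ∀ g, Commute (q c) (q g) := fun c hc g =>
    hcm (by simpa using gam_comm (a := 2) (b := 1) (by omega) le_rfl hc (mem_top g))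
  -- the two elements generate modulo `γ₂`
  set H := zpowers e ⊔ gam G 2 with hH
  have hHT : H = twoStepAt G 2 := by
    refine eq_of_le_of_card_ge (sup_le (zpowers_le.2 he) hle) ?_
    have e1 := (twoStepAt G 2).card_mul_index
    have e2 := (gam G 2).card_mul_index
    rw [index_twoStepAt h le_rfl (by omega)] at e1
    rw [h.index_gam le_rfl (by omega), ← e1, sq, ← mul_assoc] at e2
    have e3 := Nat.eq_of_mul_eq_mul_right hpf.out.pos e2
    rw [← e3, mul_comm]
    have hlt : gam G 2 < H := lt_of_le_of_ne le_sup_right fun h' =>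
      he2 (h'.ge (mem_sup_left (mem_zpowers e)))
    obtain ⟨k, hk⟩ := (h.isPGroup.to_subgroup H).exists_card_eq
    rw [hk, h.card_gam le_rfl (by omega), ← pow_succ']
    refine Nat.pow_le_pow_right hpf.out.pos ?_
    have h5 := Set.ncard_lt_ncard (SetLike.coe_ssubset_coe.2 hlt) (Set.toFinite _)
    rw [← Nat.card_coe_set_eq, ← Nat.card_coe_set_eq] at h5
    change Nat.card (gam G 2) < Nat.card H at h5
    rw [hk, h.card_gam le_rfl (by omega)] at h5
    have := (Nat.pow_lt_pow_iff_right hpf.out.one_lt).1 h5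
    omega
  have htop : zpowers x ⊔ H = ⊤ := by
    rw [hHT]
    have h1 := relIndex_mul_index (show twoStepAt G 2 ≤ zpowers x ⊔ twoStepAt G 2 from le_sup_right)
    rw [index_twoStepAt h le_rfl (by omega)] at h1
    rcases (Nat.dvd_prime hpf.out).1 (Dvd.intro_left _ h1) with h2 | h2
    · exact index_eq_one.1 h2
    · exfalso
      rw [h2] at h1
      have h3 : (twoStepAt G 2).relIndex (zpowers x ⊔ twoStepAt G 2) = 1 :=
        Nat.eq_of_mul_eq_mul_right hpf.out.pos (h1.trans (one_mul _).symm)
      exact hxT (relIndex_eq_one.1 h3 (mem_sup_left (mem_zpowers x)))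
  have hcomm : ∀ y z : G, Commute (q y) (q z) := by
    have hxy : ∀ y, Commute (q x) (q y) := by
      intro y
      have : zpowers x ⊔ H ≤ (centralizer {q x}).comap q := by
        refine sup_le (zpowers_le.2 ?_) (sup_le (zpowers_le.2 ?_) fun c hc => ?_)
        · exact mem_centralizer_singleton_iff.2 rfl
        · exact mem_centralizer_singleton_iff.2 (hcm hex).eq
        · exact mem_centralizer_singleton_iff.2 (h2cen c hc x).eq
      exact (mem_centralizer_singleton_iff.1 (this (htop.ge (mem_top y)))).symm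
    have hey : ∀ y, Commute (q e) (q y) := by
      intro y
      have : zpowers x ⊔ H ≤ (centralizer {q e}).comap q := by
        refine sup_le (zpowers_le.2 ?_) (sup_le (zpowers_le.2 ?_) fun c hc => ?_)
        · exact mem_centralizer_singleton_iff.2 (hxy e).eq
        · exact mem_centralizer_singleton_iff.2 rfl
        · exact mem_centralizer_singleton_iff.2 (h2cen c hc e).eq
      exact (mem_centralizer_singleton_iff.1 (this (htop.ge (mem_top y)))).symm
    intro y z
    have : zpowers x ⊔ H ≤ (centralizer {q z}).comap q := by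
      refine sup_le (zpowers_le.2 ?_) (sup_le (zpowers_le.2 ?_) fun c hc => ?_)
      · exact mem_centralizer_singleton_iff.2 (hxy z).eq
      · exact mem_centralizer_singleton_iff.2 (hey z).eq
      · exact mem_centralizer_singleton_iff.2 (h2cen c hc z).eq
    exact mem_centralizer_singleton_iff.1 (this (htop.ge (mem_top y)))
  have hle3 : gam G 2 ≤ gam G 3 := by
    rw [show gam G 2 = ⁅(⊤ : Subgroup G), ⊤⁆ from rfl, commutator_le]
    intro a _ b _
    rw [← QuotientGroup.eq_one_iff, ← QuotientGroup.mk'_apply, ← hq, map_commutatorElement,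
      commutatorElement_eq_one_iff_commute]
    exact hcomm a b
  obtain ⟨b, hb, hb'⟩ := exists_layer h (k := 2) le_rfl (by omega)
  exact hb' (hle3 hb)

omit hpf h [Finite G] in
theorem el_zpow {k : ℕ} {g : G} (hg : g ∈ γ G k) (z : ℤ) : el k (g ^ z) = z • el k g := by
  induction z using Int.induction_on with
  | zero => rw [zpow_zero, el_one, zero_smul]
  | succ i ih => rw [zpow_add_one, el_mul (zpow_mem hg _) hg, ih, add_smul, one_smul]
  | pred i ih => rw [zpow_sub_one, el_mul (zpow_mem hg _) (inv_mem hg), ih, el_inv hg, sub_smul, one_smul, sub_eq_add_neg]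

/-- All but the last two step centralizer coincide. -/
theorem twoStepAt_eq (hp : 5 ≤ p) : ∀ {m : ℕ}, 2 ≤ m → m + 3 ≤ n → twoStepAt G m = twoStepAt G 2 := by
  intro m
  induction m using Nat.strong_induction_on with
  | _ m ih =>
    intro h2 hmn
    by_contra hne
    have hm2 : 2 < m := lt_of_le_of_ne h2 fun e => hne (by rw [← e])
    have hmp : m ≤ p := by
      by_contra hlt
      have hi : twoStepAt G (m - p + 1) = twoStepAt G 2 := ih _ (by omega) (by omega) (by omega)
      refine hne (twoStepAt_eq_of_le h h2 (by omega) le_rfl (by omega) fun g hg => ?_)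
      by_contra hgT
      have h1 := h.twoStep_periodic (i := m - p + 1) (by omega) (by omega) (g := g) (by rwa [hi])
      rw [show m - p + 1 + p - 1 = m by omega] at h1
      exact h1 hg
    obtain ⟨e, heT, -, hex⟩ := exists_frame h (by omega)
    have hem : e ∉ twoStepAt G m := fun hem => by
      refine hne (twoStepAt_eq_of_le h le_rfl (by omega) h2 (by omega) ?_).symm
      have h1 := relIndex_mul_index (show twoStepAt G 2 ⊓ twoStepAt G m ≤ twoStepAt G 2 from inf_le_left)
      have hlt : gam G 2 < twoStepAt G 2 ⊓ twoStepAt G m := by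
        refine lt_of_le_of_ne (le_inf (gam_le_twoStepAt h.isPGroup (by omega)) (gam_le_twoStepAt h.isPGroup (by omega))) fun h' => hex ?_
        have he2 : e ∈ gam G 2 := h'.ge ⟨heT, hem⟩
        simpa using gam_comm (a := 2) (b := 1) (by omega) le_rfl he2 (mem_top x)
      have h5 := index_strictAnti hlt
      rw [h.index_gam le_rfl (by omega)] at h5
      rw [index_twoStepAt h le_rfl (by omega)] at h1
      obtain ⟨r, -, hr⟩ := (Nat.dvd_prime_pow hpf.out).1 (h.card ▸ index_dvd_card (twoStepAt G 2 ⊓ twoStepAt G m))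
      rw [hr] at h5 h1
      have hr1 : r ≤ 1 := by
        have := (Nat.pow_lt_pow_iff_right hpf.out.one_lt).1 h5
        omega
      have h6 : (twoStepAt G 2 ⊓ twoStepAt G m).relIndex (twoStepAt G 2) = 1 := by
        have h7 : p ^ r ≤ p := (Nat.pow_le_pow_right hpf.out.pos hr1).trans (pow_one p).le
        rcases Nat.eq_zero_or_pos ((twoStepAt G 2 ⊓ twoStepAt G m).relIndex (twoStepAt G 2)) with h8 | h8
        · rw [h8, zero_mul] at h1
          exact absurd h1.symm (pow_ne_zero _ hpf.out.ne_zero)
        · nlinarith [hpf.out.pos]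
      exact fun g hg => ((relIndex_eq_one.1 h6) hg).2
    -- the frame
    let u : ℕ → G := fun i => Nat.rec (motive := fun _ => G) e (fun _ v => ⁅v, x⁆) (i - 1)
    have hu1 : u 1 = e := rfl
    have hus : ∀ i, 1 ≤ i → u (i + 1) = ⁅u i, x⁆ := fun i hi => by
      obtain ⟨j, rfl⟩ : ∃ j, i = j + 1 := ⟨i - 1, by omega⟩
      rfl
    have humem : ∀ i, 1 ≤ i → u i ∈ gam G i := by
      intro i hi
      induction i, hi using Nat.le_induction with
      | base => exact mem_top _
      | succ i hi ih => rw [hus i hi]; exact gam_comm hi le_rfl ih (mem_top x)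
    have hunot : ∀ i, 2 ≤ i → i < n → u i ∉ gam G (i + 1) := by
      intro i hi
      induction i, hi using Nat.le_induction with
      | base => intro _; rw [hus 1 le_rfl, hu1]; exact hex
      | succ i hi ih =>
        intro hin hmem
        rw [hus i (by omega)] at hmem
        exact ih (by omega)
          (CfsgLib.MaxClassWeight.mem_succ_of_comm h hi (by omega) (humem i (by omega)) hmem)
    have hγ : ∀ i, 1 ≤ i → u i ∈ γ G (i - 1) := humem
    set E : ℕ → GrRing G := fun i => el (i - 1) (u i) with hE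
    set X : GrRing G := el 0 x with hX
    have hbr : ∀ i k, 1 ≤ i → 1 ≤ k → (⁅E i, E k⁆ : GrRing G) = el (i + k - 1) ⁅u i, u k⁆ := by
      intro i k hi hk
      rw [hE, lie_el (hγ i hi) (hγ k hk)]
      congr 1
      omega
    have hEX : ∀ i, 1 ≤ i → (⁅E i, X⁆ : GrRing G) = E (i + 1) := by
      intro i hi
      simp only [hE, hX]
      rw [lie_el (hγ i hi) (show x ∈ γ G 0 by simp [γ]), hus i hi]
      congr 1
      omega
    have hrec : ∀ i k, 1 ≤ i → 1 ≤ k → (⁅E i, E (k + 1)⁆ : GrRing G) = ⁅⁅E i, E k⁆, X⁆ - ⁅E (i + 1), E k⁆ := by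
      intro i k hi hk
      rw [lie_lie, hEX k hk, hEX i hi, ← lie_skew (E (i + 1)) (E k)]
      abel
    have hpE : ∀ i, 2 ≤ i → (p : ℤ) • E i = 0 := by
      intro i hi
      simp only [hE]
      rw [← el_zpow (hγ i (by omega)), zpow_natCast]
      refine el_eq_zero_of_mem ?_
      have h1 := (h.pow_shift n i hi (by omega) (u i) (humem i (by omega))).1
      show u i ^ p ∈ (⊤ : Subgroup G).lowerCentralSeries (i - 1 + 1)
      rw [show i - 1 + 1 = i + 1 - 1 by omega]
      exact gam_anti (show i + 1 ≤ i + p - 1 by omega) h1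
    have hE0 : ∀ i, 2 ≤ i → i < n → ∀ z : ℤ, z • E i = 0 → (p : ℤ) ∣ z := by
      intro i hi hin z hz
      by_contra hdvd
      refine hunot i hi hin ?_
      obtain ⟨a, b, hab⟩ := ((Nat.prime_iff_prime_int.1 hpf.out).coprime_iff_not_dvd).2 hdvd
      have h1 : E i = 0 := by
        rw [← one_smul ℤ (E i), ← hab, add_smul, mul_smul, mul_smul, hpE i hi, hz, smul_zero, smul_zero, add_zero]
      simp only [hE] at h1
      have h2 := (el_eq_zero_iff (hγ i (by omega))).1 h1
      rwa [show i - 1 + 1 = i + 1 - 1 by omega] at h2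
    have hlayer : ∀ i k, 1 ≤ i → 1 ≤ k → 2 ≤ i + k → i + k < n → ∃ z : ℤ, (⁅E i, E k⁆ : GrRing G) = z • E (i + k) := by
      intro i k hi hk h2 hin
      have hmem := gam_comm hi hk (humem i hi) (humem k hk)
      obtain ⟨j, hj⟩ := layer_gen h.isPGroup h.card h.three h.class_eq h2 hin (humem _ (by omega)) (hunot _ h2 hin) hmem
      refine ⟨j, ?_⟩
      rw [hbr i k hi hk]
      simp only [hE]
      have hc : (u (i + k) ^ j)⁻¹ * ⁅u i, u k⁆ ∈ γ G (i + k - 1) :=
        mul_mem (inv_mem (zpow_mem (hγ _ (by omega)) _)) hmem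
      rw [show ⁅u i, u k⁆ = u (i + k) ^ j * ((u (i + k) ^ j)⁻¹ * ⁅u i, u k⁆) by group,
        el_mul (zpow_mem (hγ _ (by omega)) _) hc, el_zpow (hγ _ (by omega)),
        el_eq_zero_of_mem (show (u (i + k) ^ j)⁻¹ * ⁅u i, u k⁆ ∈ γ G (i + k - 1 + 1) by
          rw [show i + k - 1 + 1 = i + k + 1 - 1 by omega]; exact hj), add_zero]
    -- the components of degree at most `m`
    have hlow : ∀ k i, 1 ≤ k → 1 ≤ i → i + k ≤ m → (⁅E i, E k⁆ : GrRing G) = 0 := by
      intro k
      induction k with
      | zero => intro i h1; omega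
      | succ k ihk =>
        intro i _ hi hik
        rcases Nat.eq_zero_or_pos k with rfl | hk
        · rw [zero_add]
          rcases Nat.lt_or_ge i 2 with hi1 | hi1
          · rw [show i = 1 by omega, lie_self]
          · rw [hbr i 1 hi le_rfl, hu1, Nat.add_sub_cancel]
            refine el_eq_zero_of_mem ?_
            show ⁅u i, e⁆ ∈ gam G (i + 2)
            rw [← commutatorElement_inv]
            have heTi : e ∈ twoStepAt G i := by
              rw [ih i (by omega) hi1 (by omega)]; exact heT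
            exact inv_mem (heTi _ (humem i hi))
        · rw [hrec i k hi hk, ihk i hk hi (by omega), ihk (i + 1) hk (by omega) (by omega), zero_lie, sub_zero]
    obtain ⟨z, hz⟩ := hlayer m 1 (by omega) le_rfl (by omega) (by omega)
    have hzp : ¬ (p : ℤ) ∣ z := by
      rintro ⟨r, rfl⟩
      refine hem (mem_twoStepAt_of_gen h h2 (by omega) (humem m (by omega)) (hunot m h2 (by omega)) ?_)
      rw [mul_comm, mul_smul, hpE _ (by omega), smul_zero, hbr m 1 (by omega) le_rfl, hu1, Nat.add_sub_cancel] at hz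
      have h1 := (el_eq_zero_iff (show ⁅u m, e⁆ ∈ γ G m from gam_comm (a := m) (b := 1) (by omega) le_rfl
        (humem m (by omega)) (mem_top e))).1 hz
      rw [← commutatorElement_inv]
      exact inv_mem h1
    -- degree `m + 1`
    have hmid : ∀ k i, 1 ≤ k → 1 ≤ i → i + k = m + 1 →
        (⁅E i, E k⁆ : GrRing G) = ((-1) ^ (k - 1) * z) • E (m + 1) := by
      intro k
      induction k with
      | zero => intro i h1; omega
      | succ k ihk =>
        intro i _ hi hik
        rcases Nat.eq_zero_or_pos k with rfl | hk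
        · obtain rfl : i = m := by omega
          simpa using hz
        · rw [hrec i k hi hk, hlow k i hk hi (by omega), ihk (i + 1) hk (by omega) (by omega), zero_lie,
            zero_sub, ← neg_smul, Nat.add_sub_cancel]
          obtain ⟨j, rfl⟩ : ∃ j, k = j + 1 := ⟨k - 1, by omega⟩
          rw [Nat.add_sub_cancel, pow_succ]
          congr 1
          ring
    have hpint : Prime (p : ℤ) := Nat.prime_iff_prime_int.1 hpf.out
    have heven : Even m := by
      by_contra hodd
      rw [Nat.not_even_iff_odd] at hodd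
      obtain ⟨r, rfl⟩ := hodd
      have h1 := hmid (2 * r + 1) 1 (by omega) le_rfl (by ring)
      rw [Nat.add_sub_cancel, pow_mul, neg_one_sq, one_pow, one_mul, ← lie_skew, hz,
        neg_eq_iff_add_eq_zero, ← add_smul] at h1
      have h3 := hE0 _ (by omega) (by omega) _ h1
      rw [← two_mul] at h3
      rcases hpint.dvd_or_dvd h3 with h4 | h4
      · have := Int.le_of_dvd (by norm_num) h4
        omega
      · exact hzp h4
    obtain ⟨r, rfl⟩ := heven
    obtain ⟨d, hd⟩ := hlayer (r + r + 1) 1 (by omega) le_rfl (by omega) (by omega)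
    have htop : ∀ k i, 1 ≤ k → 1 ≤ i → i + k = r + r + 2 →
        (⁅E i, E k⁆ : GrRing G) = ((-1) ^ (k - 1) * (d - ((k - 1 : ℕ) : ℤ) * z)) • E (r + r + 2) := by
      intro k
      induction k with
      | zero => intro i h1; omega
      | succ k ihk =>
        intro i _ hi hik
        rcases Nat.eq_zero_or_pos k with rfl | hk
        · obtain rfl : i = r + r + 1 := by omega
          simpa using hd
        · rw [hrec i k hi hk, hmid k i hk hi (by omega), smul_lie, hEX _ (by omega),
            ihk (i + 1) hk (by omega) (by omega), ← sub_smul, Nat.add_sub_cancel]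
          obtain ⟨j, rfl⟩ : ∃ j, k = j + 1 := ⟨k - 1, by omega⟩
          rw [Nat.add_sub_cancel, pow_succ]
          congr 1
          push_cast
          ring
    have hmiddle := htop (r + 1) (r + 1) (by omega) (by omega) (by ring)
    rw [lie_self, Nat.add_sub_cancel] at hmiddle
    have h1 := hE0 _ (by omega) (by omega) _ hmiddle.symm
    have hd1 : (p : ℤ) ∣ d - (r : ℤ) * z := by
      rcases hpint.dvd_or_dvd h1 with h2 | h2
      · exact absurd (hpint.dvd_of_dvd_pow h2) (fun h3 => hpint.not_unit (isUnit_of_dvd_unit h3 (by simp)))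
      · exact h2
    have hj := leibniz_lie (E 1) (E 2) (E (r + r - 1))
    rw [hlow 2 1 (by omega) le_rfl (by omega), hlow (r + r - 1) 1 (by omega) le_rfl (by omega), zero_lie,
      lie_zero, add_zero, hmid (r + r - 1) 2 (by omega) (by omega) (by omega), lie_smul,
      htop (r + r + 1) 1 (by omega) le_rfl (by omega), smul_smul, Nat.add_sub_cancel] at hj
    have hd2 := hE0 _ (by omega) (by omega) _ hj
    have hunit : ∀ t : ℕ, ¬ (p : ℤ) ∣ (-1) ^ t := fun t h3 =>
      hpint.not_unit (isUnit_of_dvd_unit h3 ((isUnit_one.neg).pow t))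
    rcases hpint.dvd_or_dvd hd2 with h2 | h2
    · rcases hpint.dvd_or_dvd h2 with h3 | h3
      · exact hunit _ h3
      · exact hzp h3
    rcases hpint.dvd_or_dvd h2 with h3 | h3
    · exact hunit _ h3
    have h4 : (p : ℤ) ∣ (r : ℤ) * z := by
      have h5 := dvd_sub hd1 h3
      rw [show d - (r : ℤ) * z - (d - ((r + r : ℕ) : ℤ) * z) = (r : ℤ) * z by push_cast; ring] at h5
      exact h5
    rcases hpint.dvd_or_dvd h4 with h5 | h5
    · have := Int.le_of_dvd (by omega) h5
      omega
    · exact hzp h5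

end CfsgLib.MaxClassEss
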